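import Mathlib.GroupTheory.SpecificGroups.Alternating

/-!
The cycles `(0 1 k)` generate the alternating group.
-/

set_option autoImplicit false

namespace Cfsg.Agent.Monster4

open Equiv Equiv.Perm

variable {n : ℕ}

theorem alternating_le_of_star (H : Subgroup (Perm (Fin (n + 2))))
    (h : ∀ k : Fin (n + 2), k ≠ 0 → swap 0 1 * swap 0 k ∈ H) : alternatingGroup (Fin (n + 2)) ≤ H := by
  have h2 : ∀ j k : Fin (n + 2), j ≠ 0 → k ≠ 0 → swap 0 j * swap 0 k ∈ H := by
    intro j k hj hk
    have h3 := H.mul_mem (H.inv_mem (h j hj)) (h k hk)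
    rwa [_root_.mul_inv_rev, swap_inv, swap_inv, mul_assoc, swap_mul_self_mul] at h3
  have h4 : ∀ a b : Fin (n + 2), a ≠ b → ∀ j : Fin (n + 2), j ≠ 0 →
      swap 0 j * swap a b ∈ H := by
    intro a b hab j hj
    rcases eq_or_ne a 0 with rfl | ha
    · exact h2 j b hj hab.symm
    · rcases eq_or_ne b 0 with rfl | hb
      · rw [swap_comm a 0]
        exact h2 j a hj ha
      · have e : swap a b = swap 0 a * (swap 0 b * swap 0 a) := by
          rw [← mul_assoc]
          have e' := swap_apply_apply (swap 0 a) 0 b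
          rwa [swap_apply_left, swap_apply_of_ne_of_ne hb hab.symm, swap_inv] at e'
        rw [e, ← mul_assoc]
        exact H.mul_mem (h2 j a hj ha) (h2 b a hb ha)
  have key : ∀ g : Perm (Fin (n + 2)), (sign g = 1 → g ∈ H) ∧ (sign g = -1 → swap 0 1 * g ∈ H) := by
    intro g
    induction g using swap_induction_on with
    | one => exact ⟨fun _ => H.one_mem, fun e => absurd e (by rw [map_one]; decide)⟩
    | swap_mul f a b hab ih =>
      refine ⟨fun e => ?_, fun e => ?_⟩ <;> rw [map_mul, sign_swap hab] at e
      · have hf : sign f = -1 := by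
          rcases Int.units_eq_one_or (sign f) with h' | h' <;> simp [h'] at e ⊢
        have h5 := H.mul_mem (H.inv_mem (h4 a b hab 1 (by simp))) (ih.2 hf)
        rwa [_root_.mul_inv_rev, swap_inv, swap_inv, mul_assoc, swap_mul_self_mul] at h5
      · have hf : sign f = 1 := by
          rcases Int.units_eq_one_or (sign f) with h' | h' <;> simp [h'] at e ⊢
        rw [← mul_assoc]
        exact H.mul_mem (h4 a b hab 1 (by simp)) (ih.1 hf)
  exact fun g hg => (key g).1 hg

end Cfsg.Agent.Monster4
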