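import Cfsg.Agent.Monster4.Gens
import Cfsg.Agent.Monster4.Star
import Cfsg.Agent.MonsterCent3.Data

/-!
The centralizer in `Co0` of an element of cycle type `3^8`: modulo that element and the centre it is the
alternating group of degree 9, and it acts faithfully on the 256 fixed classes.
-/

set_option autoImplicit false
set_option maxRecDepth 100000
set_option linter.style.haveILetI false
set_option maxHeartbeats 400000

namespace Cfsg.Agent.Monster4

open Cfsg Cfsg.Agent.Leech
open Cfsg.Agent.Golay (idx pt toSet inCode idx_lt pt_idx idx_pt Tab comp idTab maps mem_toSet comb)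
open Cfsg.Agent.Leech.Co1Cent (vecL)
open scoped Pointwise

/-- The centralizer. -/
abbrev Cg : Subgroup Co0 := Subgroup.centralizer ({g0} : Set Co0)

theorem comm_g0 (g : Cg) : (g : Co0) * g0 = g0 * g := Subgroup.mem_centralizer_singleton_iff.1 g.2

theorem g0_smul_comm (g : Cg) (v : leechLattice) : g0 • ((g : Co0) • v) = (g : Co0) • (g0 • v) := by
  rw [← mul_smul, ← mul_smul, comm_g0]

/-- A class fixed by `g0`. -/
abbrev IsFix (v : leechLattice) : Prop := Cong ((g0 • v : leechLattice) : GolayPt → ℤ) (v : GolayPt → ℤ)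

theorem isFix_smul (g : Cg) {v : leechLattice} (h : IsFix v) : IsFix ((g : Co0) • v) := by
  show Cong _ _
  rw [g0_smul_comm]
  exact cong_smul (g : Co0) h

theorem isFix_rVec (k : V) : IsFix (rVec k) := by
  show Cong _ _
  rw [g0_rVec]
  exact Cong.refl _

theorem cong_of_kap {v w : leechLattice} (hv : IsFix v) (hw : IsFix w) (h : kap v = kap w) :
    Cong (v : GolayPt → ℤ) (w : GolayPt → ℤ) := by
  have h1 := cong_rVec hv
  rw [h] at h1
  exact h1.trans (cong_rVec hw).symm

/-- The action on the fixed classes. -/
def act (g : Cg) (k : V) : V := kap ((g : Co0) • rVec k)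

theorem act_eq (g : Cg) (k : V) : act g k = kap ((g : Co0) • rVec k) := rfl

theorem kap_smul (g : Cg) {v : leechLattice} (h : IsFix v) : kap ((g : Co0) • v) = act g (kap v) :=
  kap_cong (cong_smul (g : Co0) (cong_rVec h))

theorem act_mul (g h : Cg) (k : V) : act (g * h) k = act g (act h k) := by
  show kap (((g : Co0) * (h : Co0)) • rVec k) = _
  rw [mul_smul, kap_smul g (isFix_smul h (isFix_rVec k))]
  rfl

theorem act_one (k : V) : act 1 k = k := by
  show kap ((1 : Co0) • rVec k) = k
  rw [one_smul, kap_rVec]

theorem act_injective (g : Cg) : Function.Injective (act g) := fun a b h => by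
  have := congrArg (act g⁻¹) h
  rwa [← act_mul, ← act_mul, inv_mul_cancel, act_one, act_one] at this

noncomputable instance : MulAction Cg V where
  smul := act
  one_smul := act_one
  mul_smul g h k := act_mul g h k

theorem smul_def (g : Cg) (k : V) : g • k = act g k := rfl

/-! ### The nine subspaces -/

/-- A subspace. -/
def sp (i : Fin 9) : Finset V := ((spreadTab.getD i.val []).map bv).toFinset

/-- The images under the generators as linear maps. -/
def linV (k : Fin 3) (v : V) : V := ∑ j : Fin 8, (v j).val • bv ((genImgs.getD k.val []).getD j.val 0)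

/-- The permutations of the subspaces. -/
def nine (k : Fin 3) (i : Fin 9) : Fin 9 :=
  ⟨(genNine.getD k.val []).getD i.val 0 % 9, Nat.mod_lt _ (by norm_num)⟩

theorem spread_facts : Function.Injective sp ∧ ∀ (k : Fin 3) (i : Fin 9), (sp i).image (linV k) = sp (nine k i) := by
  refine ⟨?_, ?_⟩
  · decide +kernel
  · decide +kernel

/-- The permutation of the subspaces, as a relation. -/
def Permutes (g : Cg) (p : Equiv.Perm (Fin 9)) : Prop := ∀ i, (sp i).image (act g) = sp (p i)

theorem Permutes.mul {g h : Cg} {p q : Equiv.Perm (Fin 9)} (hg : Permutes g p) (hh : Permutes h q) :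
    Permutes (g * h) (p * q) := fun i => by
  rw [show act (g * h) = act g ∘ act h from funext (act_mul g h), ← Finset.image_image, hh, hg]
  rfl

theorem permutes_one : Permutes 1 1 := fun i => by
  rw [show act 1 = id from funext act_one, Finset.image_id]
  rfl

theorem Permutes.unique {g : Cg} {p : Equiv.Perm (Fin 9)} {f : Fin 9 → Fin 9} (hp : Permutes g p)
    (hf : ∀ i, (sp i).image (act g) = sp (f i)) : ∀ i, p i = f i :=
  fun i => spread_facts.1 ((hp i).symm.trans (hf i))

/-- The elements permuting the nine subspaces. -/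
noncomputable def Stab : Subgroup Cg where
  carrier := {g | ∃ p, Permutes g p}
  one_mem' := ⟨1, permutes_one⟩
  mul_mem' := fun ⟨p, hp⟩ ⟨q, hq⟩ => ⟨p * q, hp.mul hq⟩
  inv_mem' := by
    rintro g ⟨p, hp⟩
    refine ⟨p⁻¹, fun i => ?_⟩
    have h := hp (p⁻¹ i)
    rw [show p (p⁻¹ i) = i from Equiv.apply_symm_apply p i] at h
    rw [← h, Finset.image_image, show act g⁻¹ ∘ act g = id from funext fun k => by
      rw [Function.comp_apply, ← act_mul, inv_mul_cancel, act_one]; rfl, Finset.image_id]

/-- The permutation of the nine subspaces. -/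
noncomputable def perm9 : Stab →* Equiv.Perm (Fin 9) :=
  MonoidHom.mk' (fun g => g.2.choose) fun g h => Equiv.ext fun i =>
    Permutes.unique (g * h).2.choose_spec (g.2.choose_spec.mul h.2.choose_spec) i

theorem perm9_eq {g : Stab} {f : Fin 9 → Fin 9} (hf : ∀ i, (sp i).image (act g.1) = sp (f i)) (i : Fin 9) :
    perm9 g i = f i := Permutes.unique g.2.choose_spec hf i

/-- The generators. -/
noncomputable def genC (k : Fin 3) : Cg := ⟨gen k, Subgroup.mem_centralizer_singleton_iff.2 (gen_comm k)⟩

theorem act_genC (k : Fin 3) (v : V) : act (genC k) v = linV k v := by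
  show kap (hom (gen k) (rVec v)) = _
  simp only [rVec, map_sum, map_nsmul, hom_apply, kap_gen_bVec]
  rfl

theorem genC_image (k : Fin 3) (i : Fin 9) : (sp i).image (act (genC k)) = sp (nine k i) := by
  rw [funext (act_genC k)]
  exact spread_facts.2 k i

attribute [local irreducible] sp act linV

theorem nine_bij : ∀ k : Fin 3, Function.Bijective (nine k) := by decide +kernel

/-- The generators in the stabilizer. -/
noncomputable def genS (k : Fin 3) : Stab :=
  ⟨genC k, Equiv.ofBijective _ (nine_bij k), genC_image k⟩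

/-- The value of a word. -/
def evalW : List ℕ → Fin 9 → Fin 9
  | [], i => i
  | a :: w, i => nine ⟨a % 3, Nat.mod_lt _ (by norm_num)⟩ (evalW w i)

/-- The group element of a word. -/
noncomputable def elW : List ℕ → Stab
  | [] => 1
  | a :: w => genS ⟨a % 3, Nat.mod_lt _ (by norm_num)⟩ * elW w

theorem perm9_word : ∀ (w : List ℕ) (i : Fin 9), perm9 (elW w) i = evalW w i
  | [], i => by rw [elW, map_one]; rfl
  | a :: w, i => by
    rw [elW, map_mul, Equiv.Perm.mul_apply, perm9_word w]
    exact perm9_eq (genC_image _) _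

theorem word_facts : ∀ k : Fin 7, ∀ i : Fin 9,
    evalW (wordTab.getD k.val []) i =
      (Equiv.swap (0 : Fin 9) (⟨k.val + 2, by omega⟩ : Fin 9) * Equiv.swap 0 1 : Equiv.Perm (Fin 9)) i := by
  decide +kernel

theorem alternating_le_range : alternatingGroup (Fin 9) ≤ perm9.range := by
  refine alternating_le_of_star perm9.range fun k hk => ?_
  rcases eq_or_ne k 1 with rfl | hk1
  · rw [Equiv.swap_mul_self]; exact one_mem _
  · have hk2 : 2 ≤ k.val := by
      have h0 : k.val ≠ 0 := fun e => hk (Fin.ext e)
      have h1 : k.val ≠ 1 := fun e => hk1 (Fin.ext e)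
      omega
    have hmem : Equiv.swap (0 : Fin 9) k * Equiv.swap 0 1 ∈ perm9.range := by
      refine ⟨elW (wordTab.getD (k.val - 2) []), Equiv.ext fun i => ?_⟩
      rw [perm9_word, word_facts ⟨k.val - 2, by omega⟩ i]
      congr 3
      exact Fin.ext (by show k.val - 2 + 2 = k.val; omega)
    have h := perm9.range.inv_mem hmem
    rwa [_root_.mul_inv_rev, Equiv.swap_inv, Equiv.swap_inv] at h

/-! ### The order of the centralizer -/

/-- The class of the frame. -/
def kFrame : V := bv frameKey

theorem kap_frame : kap (frame none) = kFrame := by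
  rw [kap_eq, coe_frame]
  decide +kernel

theorem isFix_frame : IsFix (frame none) := by
  show Cong _ _
  rw [g0_frame]
  exact (Monster39.cong_frame _).symm

/-- A vector of squared length 48. -/
def rootV (i : ℕ) : GolayPt → ℤ := expand (rootTab.getD i [])

theorem root_facts : (∀ i : Fin 120, lvecOK (rootV i.val) ∧ sqNorm (rootV i.val) = 48) ∧
    ((Finset.univ : Finset (Fin 120)).image fun i => kapF (rootV i.val)).card = 120 ∧
    ∀ i : Fin 120, kapF (rootV i.val) ≠ 0 := by
  decide +kernel

/-- The classes of the vectors of squared length 48, and zero. -/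
def badV : Finset V := insert 0 ((Finset.univ : Finset (Fin 120)).image fun i => kapF (rootV i.val))

theorem card_badV : badV.card = 121 := by
  rw [badV, Finset.card_insert_of_notMem, root_facts.2.1]
  rw [Finset.mem_image]
  exact fun ⟨i, _, e⟩ => root_facts.2.2 i e

theorem not_bad {v : leechLattice} (hn : sqNorm (v : GolayPt → ℤ) = 64) (hv : IsFix v) : kap v ∉ badV := by
  intro h
  rw [badV, Finset.mem_insert, Finset.mem_image] at h
  rcases h with h | ⟨i, -, h⟩
  · have h0 : IsFix (0 : leechLattice) := by
      show Cong _ _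
      rw [show g0 • (0 : leechLattice) = 0 from map_zero (hom g0)]
      exact Cong.refl _
    have := sqNorm_eq_of_cong noRoots v.2 hn.le (by simp [sqNorm]) (cong_of_kap hv h0 (h.trans (map_zero kap).symm))
    rw [hn] at this
    simp [sqNorm, -Fintype.sum_option] at this
  · obtain ⟨hok, h48⟩ := root_facts.1 i
    let r : leechLattice := ⟨rootV i.val, lvec_mem hok⟩
    have hr : IsFix r := by
      show Cong _ _
      rw [(g0_fix_iff (v := r)).2 fun p => ?_]
      · exact Cong.refl _
      · show List.getD _ (cycOf (sig.1 p)).val 0 = List.getD _ (cycOf p).val 0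
        rw [tab_sig.apply, cyc_facts.2.1]
    have := sqNorm_eq_of_cong noRoots v.2 hn.le (show sqNorm (r : GolayPt → ℤ) ≤ 64 by
      show sqNorm (rootV i.val) ≤ 64
      rw [h48]; norm_num) (cong_of_kap hv hr h.symm)
    rw [hn, show sqNorm (r : GolayPt → ℤ) = sqNorm (rootV i.val) from rfl, h48] at this
    norm_num at this

theorem orbit_le : (MulAction.orbit Cg kFrame).ncard ≤ 135 := by
  have hsub : MulAction.orbit Cg kFrame ⊆ ((badVᶜ : Finset V) : Set V) := by
    rintro _ ⟨g, rfl⟩
    rw [Finset.mem_coe, Finset.mem_compl]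
    show act g kFrame ∉ badV
    rw [← kap_frame, ← kap_smul g isFix_frame]
    exact not_bad ((sqNorm_smul _ _).trans (sqNorm_frame none)) (isFix_smul g isFix_frame)
  have h := Set.ncard_le_ncard hsub (Finset.finite_toSet _)
  rw [Set.ncard_coe_finset, Finset.card_compl, card_badV] at h
  simpa using h

theorem fixed_code : (Finset.univ.filter fun m : Fin 4096 => maps sigTab (comb m.val) (comb m.val) = true).card = 16 := by
  decide +kernel

theorem card_stab_le : Nat.card (MulAction.stabilizer Cg kFrame) ≤ 8064 := by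
  classical
  have hex : ∀ g : MulAction.stabilizer Cg kFrame,
      ∃ (τ : Subgroup.centralizer ({sig} : Set M24))
        (m : {m : Fin 4096 // m ∈ Finset.univ.filter fun m : Fin 4096 => maps sigTab (comb m.val) (comb m.val) = true})
        (hc : toSet (comb m.1.val) ∈ code), ((g : Cg) : Co0) = mono τ.1 hc := by
    intro g
    have hg : act (g : Cg) kFrame = kFrame := g.2
    have hcong : Cong (frame none : GolayPt → ℤ) ((((g : Cg) : Co0) • frame none : leechLattice) : GolayPt → ℤ) :=
      cong_of_kap isFix_frame (isFix_smul _ isFix_frame) (by rw [kap_smul _ isFix_frame, kap_frame, hg])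
    obtain ⟨τ, c, hc, e⟩ := exists_eq_mono (g := ((g : Cg) : Co0)) fun v hv => by
      rw [← stdCross_eq_class] at hv ⊢
      exact ⟨SetLike.coe_mem _, (sqNorm_smul _ v).trans hv.2.1, hcong.trans (cong_smul _ hv.2.2)⟩
    have hsc : sig.1 • c ∈ code := by
      rw [show (code : Set (Finset GolayPt)) = sig.1 • code from (MulAction.mem_stabilizer_iff.1 sig.2).symm]
      exact Set.smul_mem_smul_set hc
    have h := comm_g0 (g : Cg)
    rw [e, show g0 = mono sig empty_mem_code from rfl,
      Monster39.mono_mul_mono hc empty_mem_code hc (by simp [Finset.smul_finset_empty, symmDiff]),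
      Monster39.mono_mul_mono empty_mem_code hc hsc (by
        rw [← Finset.bot_eq_empty, bot_symmDiff])] at h
    obtain ⟨h1, h2⟩ := mono_injective h
    obtain ⟨n, hn, rfl⟩ := Golay.mem_supports_iff.1 hc
    have hn' : comb (n % 4096) = n := by simpa [inCode] using hn
    have hm : maps sigTab n n = true := by
      simp only [maps, List.all_eq_true, List.mem_range, beq_iff_eq]
      intro i hi
      have h3 : pt (sigTab.getD i 0) ∈ sig.1 • toSet n ↔ pt i ∈ toSet n := by
        rw [← sig_pt hi, ← Equiv.Perm.smul_def, Finset.smul_mem_smul_finset_iff]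
      rw [← h2, mem_toSet, mem_toSet, idx_pt (tab_sig.lt hi), idx_pt hi] at h3
      exact Bool.eq_iff_iff.2 h3
    refine ⟨⟨τ, Subgroup.mem_centralizer_singleton_iff.2 h1⟩, ⟨⟨n % 4096, Nat.mod_lt _ (by norm_num)⟩, ?_⟩, ?_, ?_⟩
    · rw [Finset.mem_filter]
      exact ⟨Finset.mem_univ _, by simp only [hn', hm]⟩
    · simpa only [hn'] using hc
    · rw [e]
      congr 1
      simp only [hn']
  choose τ m hc he using hex
  have hinj : Function.Injective fun g => (τ g, m g) := by
    intro a b h
    simp only [Prod.mk.injEq] at h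
    refine Subtype.ext (Subtype.ext ?_)
    rw [he a, he b]
    congr 1
    · rw [h.1]
    · rw [h.2]
  have h := Nat.card_le_card_of_injective _ hinj
  rw [Nat.card_prod, Nat.card_eq_finsetCard, fixed_code] at h
  exact h.trans ((Nat.mul_le_mul_right 16 card_cent_sig).trans (by norm_num))

theorem card_Cg_le : Nat.card Cg ≤ 6 * 181440 := by
  have h := (MulAction.stabilizer Cg kFrame).card_mul_index
  rw [MulAction.index_stabilizer] at h
  rw [← h]
  exact (Nat.mul_le_mul card_stab_le orbit_le).trans (by norm_num)

/-! ### The quotient -/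

theorem act_neg {g : Cg} (hg : (g : Co0) = negOne) (k : V) : act g k = k := by
  rw [act_eq]
  show kap ((g : Co0) • rVec k) = k
  rw [hg, negOne_smul, map_neg, kap_rVec]
  funext j
  exact CharTwo.neg_eq _

theorem act_g0 {g : Cg} (hg : (g : Co0) = g0) (k : V) : act g k = k := by
  rw [act_eq]
  show kap ((g : Co0) • rVec k) = k
  rw [hg, g0_rVec, kap_rVec]

/-- The element of order 6. -/
noncomputable def sixEl : Cg :=
  ⟨negOne * g0, Subgroup.mem_centralizer_singleton_iff.2 (by
    rw [mul_assoc, ← mul_assoc g0, Subgroup.mem_center_iff.1 negOne_mem_center g0, mul_assoc])⟩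

theorem negOne_comm : Commute negOne g0 := (Subgroup.mem_center_iff.1 negOne_mem_center g0).symm

theorem orderOf_negOne : orderOf negOne = 2 := by
  haveI : Fact (Nat.Prime 2) := ⟨Nat.prime_two⟩
  refine orderOf_eq_prime ?_ fun h => ?_
  · refine ext_frame fun i => Subtype.ext ?_
    rw [pow_two, mul_smul, negOne_smul, negOne_smul, neg_neg, one_smul]
  · exact Finset.univ_nonempty.ne_empty (mono_injective (show mono (1 : M24) univ_mem_code = mono 1 empty_mem_code from
      h.trans Monster39.mono_one.symm)).2

theorem orderOf_g0 : orderOf g0 = 3 := by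
  rw [g0, orderOf_injective Monster39.permHom (fun a b h => (mono_injective h).1), orderOf_sig]

theorem orderOf_sixEl : orderOf sixEl = 6 := by
  rw [← orderOf_injective Cg.subtype Subtype.val_injective]
  show orderOf (negOne * g0) = 6
  rw [negOne_comm.orderOf_mul_eq_mul_orderOf_of_coprime (by rw [orderOf_negOne, orderOf_g0]; norm_num),
    orderOf_negOne, orderOf_g0]

theorem act_sixEl (k : V) : act sixEl k = k := by
  rw [act_eq]
  show kap ((negOne * g0) • rVec k) = k
  rw [mul_smul, g0_rVec, negOne_smul, map_neg, kap_rVec]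
  funext j
  exact CharTwo.neg_eq _

theorem permutes_of_act_eq {g : Cg} (h : ∀ k, act g k = k) : Permutes g 1 := fun i => by
  rw [show act g = id from funext h, Finset.image_id]
  rfl

/-- The six elements in the kernel. -/
noncomputable def sixS : Stab := ⟨sixEl, 1, permutes_of_act_eq act_sixEl⟩

theorem perm9_triv {g : Stab} (h : ∀ k, act g.1 k = k) : perm9 g = 1 :=
  Equiv.ext fun i => Permutes.unique g.2.choose_spec (f := fun i => (1 : Equiv.Perm (Fin 9)) i)
    (permutes_of_act_eq h) i

theorem sixS_ker : sixS ∈ perm9.ker := MonoidHom.mem_ker.2 (perm9_triv act_sixEl)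

theorem counting : Stab = ⊤ ∧ perm9.range = alternatingGroup (Fin 9) ∧
    perm9.ker = Subgroup.zpowers sixS := by
  haveI : Finite Co0 := Monster39.finiteCo0
  have hA : Nat.card (alternatingGroup (Fin 9)) = 181440 := by
    rw [nat_card_alternatingGroup, Nat.card_fin]; rfl
  have h6 : Nat.card (Subgroup.zpowers sixS) = 6 := by
    rw [Nat.card_zpowers, ← orderOf_injective Stab.subtype Subtype.val_injective]
    exact orderOf_sixEl
  have hk : Subgroup.zpowers sixS ≤ perm9.ker := Subgroup.zpowers_le.2 sixS_ker
  have hk6 : 6 ≤ Nat.card perm9.ker := h6 ▸ Subgroup.card_le_of_le hk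
  have hr : 181440 ≤ Nat.card perm9.range := hA ▸ Subgroup.card_le_of_le alternating_le_range
  have hS : Nat.card Stab = Nat.card perm9.range * Nat.card perm9.ker := by
    rw [Subgroup.card_eq_card_quotient_mul_card_subgroup perm9.ker,
      Nat.card_congr (QuotientGroup.quotientKerEquivRange perm9).toEquiv]
  have hle : Nat.card Stab ≤ Nat.card Cg := Subgroup.card_le_card_group Stab
  have hC := card_Cg_le
  refine ⟨?_, ?_, ?_⟩
  · refine Subgroup.eq_top_of_le_card _ ?_
    nlinarith
  · refine (Subgroup.eq_of_le_of_card_ge alternating_le_range ?_).symm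
    nlinarith
  · refine (Subgroup.eq_of_le_of_card_ge hk ?_).symm
    nlinarith

theorem mem_Stab (g : Cg) : g ∈ Stab := counting.1 ▸ Subgroup.mem_top g

/-- The map onto the alternating group. -/
noncomputable def pi9 : Cg →* alternatingGroup (Fin 9) :=
  MonoidHom.codRestrict (perm9.comp (MonoidHom.codRestrict (MonoidHom.id Cg) Stab mem_Stab)) _
    fun g => counting.2.1 ▸ MonoidHom.mem_range.2 ⟨_, rfl⟩

theorem pi9_eq_one {g : Cg} (h : ∀ k, act g k = k) : pi9 g = 1 :=
  Subtype.ext (perm9_triv (g := ⟨g, mem_Stab g⟩) h)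

/-- The data on the centralizer. -/
noncomputable def centData : MonsterCent3.CentData g0 (alternatingGroup (Fin 9)) 256 where
  r i := rVec (bv i.val)
  fixed i := isFix_rVec _
  distinct i j h := bv_bij.1 (by simpa [kap_rVec] using kap_cong h)
  complete v h := by
    obtain ⟨i, hi⟩ := bv_bij.2 (kap v)
    exact ⟨i, by
      show Cong _ (rVec (bv i.val) : GolayPt → ℤ)
      rw [show bv i.val = kap v from hi]
      exact cong_rVec h⟩
  π := pi9
  surj a := by
    obtain ⟨g, hg⟩ : (a : Equiv.Perm (Fin 9)) ∈ perm9.range := counting.2.1.symm ▸ a.2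
    exact ⟨g.1, Subtype.ext hg⟩
  ker g hg := by
    have h : (⟨g, mem_Stab g⟩ : Stab) ∈ perm9.ker := congrArg Subtype.val hg
    rw [counting.2.2] at h
    obtain ⟨n, hn⟩ := h
    refine ⟨n, ?_⟩
    have e : (negOne * g0) ^ n = (g : Co0) := by
      have := congrArg (fun s : Stab => ((s : Cg) : Co0)) hn
      simpa [sixS, sixEl] using this
    have e2 : (QuotientGroup.mk (negOne * g0) : Spor.Co1) = QuotientGroup.mk g0 := by
      rw [QuotientGroup.mk_mul, (QuotientGroup.eq_one_iff _).2 negOne_mem_center, one_mul]
    show (QuotientGroup.mk g0 : Spor.Co1) ^ n = _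
    rw [← e2, ← e, QuotientGroup.mk_zpow]
  map_self := pi9_eq_one (act_g0 rfl)
  map_center g hg := by
    rcases center_eq_or _ hg with e | e
    · rw [show g = 1 from Subtype.ext e, map_one]
    · exact pi9_eq_one (act_neg e)
  faithful g hg := pi9_eq_one fun k => by
    obtain ⟨i, hi⟩ := bv_bij.2 k
    have := kap_cong (hg i)
    rw [kap_rVec] at this
    rw [← show bv i.val = k from hi, act_eq]
    exact this

end Cfsg.Agent.Monster4
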