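import Mathlib.Data.Nat.Notation
import Mathlib.Data.Int.Notation

/-!
Tables for an element of cycle type `3^8` of the Mathieu group and its centralizer in the automorphism
group of the lattice.
-/
set_option autoImplicit false

namespace Cfsg.Agent.Monster4

/-- The element of cycle type `3^8`. -/
def sigTab : List ℕ :=
  [13, 4, 16, 21, 9, 7, 11, 18, 3, 1, 0, 14, 17, 10, 6, 2, 15, 19, 5, 12, 23, 8, 20, 22]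

/-- Its inverse. -/
def sigInv : List ℕ :=
  [10, 9, 15, 8, 1, 18, 14, 5, 21, 4, 13, 6, 19, 0, 11, 16, 2, 12, 7, 17, 22, 3, 23, 20]

/-- Its cycles. -/
def cycPts : List (List ℕ) :=
  [[0, 13, 10], [1, 4, 9], [2, 16, 15], [3, 21, 8], [5, 7, 18], [6, 11, 14], [12, 17, 19], [20, 23, 22]]

/-- A Sylow 3-subgroup. -/
def sylTabs : List (List ℕ) :=
  [[0, 1, 2, 3, 4, 5, 6, 7, 8, 9, 10, 11, 12, 13, 14, 15, 16, 17, 18, 19, 20, 21, 22, 23], [9, 5, 2, 3, 0, 18, 14, 10, 8, 4, 13, 6, 16, 7, 11, 17, 22, 20, 1, 19, 15, 21, 12, 23], [4, 18, 2, 3, 9, 1, 11, 13, 8, 0, 7, 14, 22, 10, 6, 20, 12, 15, 5, 19, 17, 21, 16, 23], [7, 0, 20, 8, 18, 5, 6, 1, 21, 9, 10, 11, 19, 4, 14, 12, 2, 22, 13, 15, 16, 3, 23, 17], [9, 5, 20, 8, 7, 13, 14, 10, 21, 18, 4, 6, 2, 1, 11, 22, 23, 16,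 0, 15, 12, 3, 19, 17], [18, 13, 20, 8, 9, 0, 11, 4, 21, 7, 1, 14, 23, 10, 6, 16, 19, 12, 5, 15, 22, 3, 2, 17], [0, 1, 12, 21, 18, 9, 6, 7, 3, 10, 5, 11, 17, 4, 14, 23, 15, 2, 13, 22, 19, 8, 20, 16], [10, 9, 12, 21, 0, 13, 14, 5, 3, 18, 4, 6, 15, 7, 11, 2, 20, 19, 1, 22, 23, 8, 17, 16], [18, 13, 12, 21, 10, 1, 11, 4, 3, 0, 7, 14, 20, 5, 6, 19, 17, 23, 9, 22, 2, 8, 15, 16], [7, 0, 19, 3, 13, 9, 6, 1, 8, 10, 5, 11, 22, 18, 14, 17, 12, 20, 4, 23, 15, 21, 16, 2], [10, 9, 19, 3, 7, 4, 14, 5, 8, 13, 18, 6, 12, 1, 11, 20, 16, 15, 0, 23, 17, 21, 22, 2], [13, 4, 19, 3, 10, 0, 11, 18, 8, 7, 1, 14, 16, 5, 6, 15, 22, 17, 9, 23, 20, 21, 12, 2], [7, 0, 22, 21, 4, 10, 6, 1, 3, 5, 9, 11, 20, 13, 14, 2, 17, 19, 18, 16, 23, 8, 15, 12], [5, 10, 22, 21, 7, 18, 14, 9, 3, 4, 13,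 6, 17, 1, 11, 19, 15, 23, 0, 16, 2, 8, 20, 12], [4, 18, 22, 21, 5, 0, 11, 13, 3, 7, 1, 14, 15, 9, 6, 23, 20, 2, 10, 16, 19, 8, 17, 12], [1, 7, 23, 3, 18, 10, 6, 0, 8, 5, 9, 11, 16, 4, 14, 20, 22, 15, 13, 2, 17, 21, 12, 19], [18, 13, 23, 3, 5, 7, 11, 4, 8, 1, 0, 14, 12, 9, 6, 17, 16, 20, 10, 2, 15, 21, 22, 19], [5, 10, 23, 3, 1, 13, 14, 9, 8, 18, 4, 6, 22, 0, 11, 15, 12, 17, 7, 2, 20, 21, 16, 19], [5, 10, 17, 8, 0, 4, 14, 9, 21, 13, 18, 6, 23, 7, 11, 12, 19, 22, 1, 20, 16, 3, 2, 15], [0, 1, 17, 8, 13, 10, 6, 7, 21, 5, 9, 11, 2, 18, 14, 16, 23, 12, 4, 20, 22, 3, 19, 15], [13, 4, 17, 8, 5, 1, 11, 18, 21, 0, 7, 14, 19, 9, 6, 22, 2, 16, 10, 20, 12, 3, 23, 15], [1, 7, 16, 21, 13, 5, 6, 0, 3, 9, 10, 11, 15, 18, 14, 19, 20, 23, 4, 12, 2, 8, 17, 22], [13, 4, 16, 21,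 9, 7, 11, 18, 3, 1, 0, 14, 17, 10, 6, 2, 15, 19, 5, 12, 23, 8, 20, 22], [9, 5, 16, 21, 1, 4, 14, 10, 3, 13, 18, 6, 20, 0, 11, 23, 17, 2, 7, 12, 19, 8, 15, 22], [1, 7, 15, 8, 4, 9, 6, 0, 21, 10, 5, 11, 23, 13, 14, 22, 19, 16, 18, 17, 12, 3, 2, 20], [4, 18, 15, 8, 10, 7, 11, 13, 21, 1, 0, 14, 2, 5, 6, 12, 23, 22, 9, 17, 16, 3, 19, 20], [10, 9, 15, 8, 1, 18, 14, 5, 21, 4, 13, 6, 19, 0, 11, 16, 2, 12, 7, 17, 22, 3, 23, 20]]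

/-- The inverses of its elements. -/
def sylInv : List (List ℕ) :=
  [[0, 1, 2, 3, 4, 5, 6, 7, 8, 9, 10, 11, 12, 13, 14, 15, 16, 17, 18, 19, 20, 21, 22, 23], [4, 18, 2, 3, 9, 1, 11, 13, 8, 0, 7, 14, 22, 10, 6, 20, 12, 15, 5, 19, 17, 21, 16, 23], [9, 5, 2, 3, 0, 18, 14, 10, 8, 4, 13, 6, 16, 7, 11, 17, 22, 20, 1, 19, 15, 21, 12, 23], [1, 7, 16, 21, 13, 5, 6, 0, 3, 9, 10, 11, 15, 18, 14, 19, 20, 23, 4, 12, 2, 8, 17, 22], [18, 13, 12, 21, 10, 1, 11, 4, 3, 0, 7, 14, 20, 5, 6, 19, 17, 23, 9, 22, 2, 8, 15, 16], [5, 10, 22, 21, 7, 18, 14, 9, 3, 4, 13, 6, 17, 1, 11, 19, 15, 23, 0, 16, 2, 8, 20, 12], [0, 1, 17, 8, 13, 10, 6, 7, 21, 5, 9, 11, 2, 18, 14, 16, 23, 12, 4, 20, 22, 3, 19, 15], [4, 18, 15, 8, 10, 7, 11, 13, 21, 1, 0, 14, 2, 5, 6, 12, 23, 22, 9, 17, 16, 3,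 19, 20], [9, 5, 20, 8, 7, 13, 14, 10, 21, 18, 4, 6, 2, 1, 11, 22, 23, 16, 0, 15, 12, 3, 19, 17], [1, 7, 23, 3, 18, 10, 6, 0, 8, 5, 9, 11, 16, 4, 14, 20, 22, 15, 13, 2, 17, 21, 12, 19], [18, 13, 23, 3, 5, 7, 11, 4, 8, 1, 0, 14, 12, 9, 6, 17, 16, 20, 10, 2, 15, 21, 22, 19], [5, 10, 23, 3, 1, 13, 14, 9, 8, 18, 4, 6, 22, 0, 11, 15, 12, 17, 7, 2, 20, 21, 16, 19], [1, 7, 15, 8, 4, 9, 6, 0, 21, 10, 5, 11, 23, 13, 14, 22, 19, 16, 18, 17, 12, 3, 2, 20], [18, 13, 20, 8, 9, 0, 11, 4, 21, 7, 1, 14, 23, 10, 6, 16, 19, 12, 5, 15, 22, 3, 2, 17], [5, 10, 17, 8, 0, 4, 14, 9, 21, 13, 18, 6, 23, 7, 11, 12, 19, 22, 1, 20, 16, 3, 2, 15], [7, 0, 19, 3, 13, 9, 6, 1, 8, 10, 5, 11, 22, 18, 14, 17, 12, 20, 4, 23, 15, 21, 16, 2], [10, 9, 19, 3, 7, 4, 14, 5, 8, 13, 18, 6, 12, 1, 11,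 20, 16, 15, 0, 23, 17, 21, 22, 2], [13, 4, 19, 3, 10, 0, 11, 18, 8, 7, 1, 14, 16, 5, 6, 15, 22, 17, 9, 23, 20, 21, 12, 2], [4, 18, 22, 21, 5, 0, 11, 13, 3, 7, 1, 14, 15, 9, 6, 23, 20, 2, 10, 16, 19, 8, 17, 12], [0, 1, 12, 21, 18, 9, 6, 7, 3, 10, 5, 11, 17, 4, 14, 23, 15, 2, 13, 22, 19, 8, 20, 16], [9, 5, 16, 21, 1, 4, 14, 10, 3, 13, 18, 6, 20, 0, 11, 23, 17, 2, 7, 12, 19, 8, 15, 22], [7, 0, 20, 8, 18, 5, 6, 1, 21, 9, 10, 11, 19, 4, 14, 12, 2, 22, 13, 15, 16, 3, 23, 17], [10, 9, 15, 8, 1, 18, 14, 5, 21, 4, 13, 6, 19, 0, 11, 16, 2, 12, 7, 17, 22, 3, 23, 20], [13, 4, 17, 8, 5, 1, 11, 18, 21, 0, 7, 14, 19, 9, 6, 22, 2, 16, 10, 20, 12, 3, 23, 15], [7, 0, 22, 21, 4, 10, 6, 1, 3, 5, 9, 11, 20, 13, 14, 2, 17, 19, 18, 16, 23, 8, 15, 12], [10, 9, 12, 21, 0, 13, 14,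 5, 3, 18, 4, 6, 15, 7, 11, 2, 20, 19, 1, 22, 23, 8, 17, 16], [13, 4, 16, 21, 9, 7, 11, 18, 3, 1, 0, 14, 17, 10, 6, 2, 15, 19, 5, 12, 23, 8, 20, 22]]

/-- Conjugating elements: onto the element (tag 0), a central one (1, 2), or trivial (3). -/
def witTabs : List (List ℕ × ℕ) :=
  [([0, 1, 2, 3, 4, 5, 6, 7, 8, 9, 10, 11, 12, 13, 14, 15, 16, 17, 18, 19, 20, 21, 22, 23], 3), ([15, 18, 11, 8, 20, 4, 7, 9, 21, 17, 10, 0, 12, 5, 1, 2, 22, 19, 13, 3, 23, 6, 16, 14], 1), ([10, 4, 11, 8, 5, 18, 1, 17, 21, 9, 15, 0, 22, 20, 7, 2, 12, 23, 13, 14, 19, 6, 16, 3], 1), ([18, 13, 15, 12, 9, 3, 14, 4, 22, 21, 6, 11, 19, 5, 8, 2, 20, 1, 10, 23, 17, 16, 0, 7], 1), ([19, 1, 5, 23, 3, 4, 0, 21, 22, 12, 8, 10, 18, 9, 13, 2, 11, 6, 17, 15, 7, 20, 16, 14], 0), ([20, 9, 5, 19, 21,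 22, 14, 3, 12, 8, 4, 6, 13, 1, 11, 2, 16, 0, 23, 15, 7, 17, 18, 10], 0), ([6, 3, 15, 4, 9, 16, 11, 21, 18, 12, 22, 8, 17, 5, 14, 2, 23, 20, 10, 1, 7, 13, 0, 19], 1), ([23, 7, 16, 0, 20, 12, 1, 19, 10, 18, 22, 9, 15, 17, 4, 2, 14, 21, 5, 8, 6, 13, 3, 11], 0), ([21, 19, 4, 0, 11, 17, 7, 6, 10, 3, 14, 18, 9, 12, 5, 2, 20, 23, 8, 16, 1, 13, 15, 22], 0), ([18, 13, 15, 21, 5, 16, 11, 4, 6, 12, 22, 14, 1, 9, 8, 2, 7, 19, 10, 17, 23, 3, 0, 20], 1), ([5, 16, 15, 3, 18, 13, 7, 4, 6, 12, 9, 0, 8, 22, 1, 2, 11, 23, 10, 17, 19, 21, 14, 20], 1), ([2, 16, 15, 11, 12, 23, 13, 0, 3, 1, 22, 18, 10, 19, 4, 6, 5, 8, 7, 17, 21, 14, 9, 20], 1), ([18, 13, 19, 10, 3, 22, 8, 4, 9, 12, 16, 14, 1, 6, 11, 2, 20, 15, 21, 17, 0, 5, 23, 7], 1), ([18, 22, 4, 19, 0, 5, 8, 13, 17, 10, 20,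 21, 14, 23, 3, 2, 15, 6, 7, 16, 1, 12, 9, 11], 0), ([20, 5, 4, 19, 23, 22, 3, 10, 17, 13, 18, 21, 15, 0, 8, 2, 14, 1, 7, 11, 6, 12, 9, 16], 0), ([22, 16, 15, 21, 9, 13, 8, 12, 6, 4, 18, 14, 7, 5, 11, 2, 1, 23, 10, 20, 19, 3, 0, 17], 1), ([9, 13, 15, 3, 22, 16, 1, 12, 6, 4, 5, 0, 11, 18, 7, 2, 8, 19, 10, 20, 23, 21, 14, 17], 1), ([19, 16, 15, 14, 22, 23, 10, 1, 3, 0, 12, 9, 13, 2, 5, 6, 4, 8, 7, 20, 21, 11, 18, 17], 1), ([4, 22, 5, 19, 1, 9, 11, 8, 12, 3, 20, 6, 16, 21, 14, 2, 13, 7, 23, 10, 0, 17, 18, 15], 0), ([6, 3, 15, 12, 5, 13, 8, 21, 22, 4, 18, 11, 20, 9, 14, 2, 19, 17, 10, 7, 1, 16, 0, 23], 1), ([8, 4, 5, 23, 9, 1, 13, 12, 22, 21, 19, 10, 11, 3, 0, 2, 18, 7, 17, 14, 6, 20, 16, 15], 0), ([22, 16, 15, 4, 5, 3, 14, 12, 18, 21, 6, 8, 23, 9, 11, 2, 17,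 7, 10, 19, 20, 13, 0, 1], 1), ([13, 4, 16, 21, 9, 7, 11, 18, 3, 1, 0, 14, 17, 10, 6, 2, 15, 19, 5, 12, 23, 8, 20, 22], 0), ([14, 17, 4, 0, 12, 19, 5, 3, 10, 6, 21, 18, 20, 11, 7, 2, 9, 1, 8, 22, 23, 13, 15, 16], 0), ([1, 0, 23, 22, 11, 5, 14, 7, 16, 9, 10, 8, 17, 3, 6, 2, 4, 18, 21, 13, 15, 12, 19, 20], 1), ([7, 1, 15, 6, 18, 17, 23, 19, 11, 9, 5, 22, 16, 12, 20, 2, 8, 0, 4, 10, 21, 14, 13, 3], 0), ([14, 20, 15, 0, 22, 1, 3, 9, 13, 23, 6, 8, 12, 11, 21, 2, 16, 19, 4, 17, 7, 10, 18, 5], 0)]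

/-- The positions of the two nontrivial central elements. -/
def centIdx : List ℕ :=
  [9, 15]

/-- An octad through five of six base points. -/
def octM : ℕ :=
  13771273

/-- The elements with prescribed images of the six points. -/
def candTabs : List (ℕ × List (List ℕ)) :=
  [(0, [[0, 1, 2, 3, 4, 5, 6, 7, 8, 9, 10, 11, 12, 13, 14, 15, 16, 17, 18, 19, 20, 21, 22, 23], [0, 21, 7, 17, 8, 14, 2, 6, 12, 3, 10, 16, 4, 13, 15, 5, 18, 9, 11, 1, 20, 19, 22, 23], [0, 19, 6, 9, 12, 15, 7, 2, 4, 17, 10, 18, 8, 13, 5, 14, 11, 3, 16, 21, 20, 1, 22, 23]]), (1, [[1, 2, 0, 14, 16, 3, 7, 21, 11, 15, 9, 18, 12, 4, 5, 10, 13, 17, 8, 19, 20, 6, 22, 23], [1, 6, 21, 17, 11, 5, 0, 7, 12, 14, 9, 13, 16, 4, 10, 3, 8, 15, 18, 2, 20, 19, 22, 23], [1, 19, 7, 15, 12, 10, 21, 0, 16,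 17, 9, 8, 11, 4, 3, 5, 18, 14, 13, 6, 20, 2, 22, 23]]), (2, [[2, 19, 21, 10, 12, 9, 6, 1, 13, 17, 15, 11, 18, 16, 14, 3, 8, 5, 4, 7, 20, 0, 22, 23], [2, 0, 1, 5, 13, 14, 21, 6, 18, 10, 15, 8, 12, 16, 3, 9, 4, 17, 11, 19, 20, 7, 22, 23], [2, 7, 6, 17, 18, 3, 1, 21, 12, 5, 15, 4, 13, 16, 9, 14, 11, 10, 8, 0, 20, 19, 22, 23]]), (3, [[3, 5, 6, 18, 2, 14, 19, 0, 1, 4, 8, 11, 7, 21, 10, 17, 13, 16, 12, 9, 20, 15, 22, 23], [3, 15, 0, 16, 1, 10, 6, 19, 7, 18, 8, 13, 2, 21, 17, 14, 12, 4, 11, 5, 20, 9, 22, 23], [3, 9, 19, 4, 7, 17, 0, 6, 2, 16, 8, 12, 1, 21, 14, 10, 11, 18, 13, 15, 20, 5, 22, 23]]), (4, [[4, 11, 0, 2, 15, 5, 7, 21, 14, 19, 1, 8, 17, 9, 10, 3, 18, 6, 13, 16, 20, 12, 22, 23], [4, 12, 21, 6, 14, 10, 0, 7, 17, 2, 1, 18, 15, 9, 3, 5, 13, 19, 8, 11, 20,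 16, 22, 23], [4, 16, 7, 19, 17, 3, 21, 0, 15, 6, 1, 13, 14, 9, 5, 10, 8, 2, 18, 12, 20, 11, 22, 23]]), (5, [[5, 10, 19, 13, 6, 17, 2, 21, 1, 4, 18, 12, 0, 7, 3, 15, 8, 11, 16, 9, 20, 14, 22, 23], [5, 14, 21, 11, 1, 3, 19, 2, 0, 13, 18, 8, 6, 7, 15, 17, 16, 4, 12, 10, 20, 9, 22, 23], [5, 9, 2, 4, 0, 15, 21, 19, 6, 11, 18, 16, 1, 7, 17, 3, 12, 13, 8, 14, 20, 10, 22, 23]]), (6, [[6, 0, 19, 15, 13, 5, 1, 7, 16, 10, 14, 4, 8, 11, 9, 17, 12, 3, 18, 21, 20, 2, 22, 23], [6, 2, 7, 3, 16, 9, 19, 1, 8, 15, 14, 12, 13, 11, 17, 5, 18, 10, 4, 0, 20, 21, 22, 23], [6, 21, 1, 10, 8, 17, 7, 19, 13, 3, 14, 18, 16, 11, 5, 9, 4, 15, 12, 2, 20, 0, 22, 23]]), (7, [[7, 1, 19, 10, 4, 3, 2, 21, 13, 9, 5, 16, 11, 18, 15, 17, 12, 14, 8, 6, 20, 0, 22, 23], [7, 0, 21, 14, 13, 15, 19,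 2, 11, 10, 5, 12, 4, 18, 17, 3, 8, 9, 16, 1, 20, 6, 22, 23], [7, 6, 2, 9, 11, 17, 21, 19, 4, 14, 5, 8, 13, 18, 3, 15, 16, 10, 12, 0, 20, 1, 22, 23]]), (8, [[8, 18, 6, 1, 9, 17, 19, 0, 5, 2, 21, 13, 15, 3, 14, 10, 12, 7, 11, 4, 20, 16, 22, 23], [8, 16, 0, 7, 5, 14, 6, 19, 15, 1, 21, 12, 9, 3, 10, 17, 11, 2, 13, 18, 20, 4, 22, 23], [8, 4, 19, 2, 15, 10, 0, 6, 9, 7, 21, 11, 5, 3, 17, 14, 13, 1, 12, 16, 20, 18, 22, 23]]), (9, [[9, 17, 21, 12, 2, 3, 0, 7, 6, 11, 4, 8, 19, 1, 5, 10, 18, 16, 13, 14, 20, 15, 22, 23], [9, 15, 7, 16, 6, 5, 21, 0, 19, 12, 4, 18, 2, 1, 10, 3, 13, 11, 8, 17, 20, 14, 22, 23], [9, 14, 0, 11, 19, 10, 7, 21, 2, 16, 4, 13, 6, 1, 3, 5, 8, 12, 18, 15, 20, 17, 22, 23]]), (10, [[10, 17, 7, 12, 1, 5, 2, 6, 21, 8, 13, 18, 19, 0, 14, 15, 11, 4, 16,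 3, 20, 9, 22, 23], [10, 9, 6, 4, 21, 14, 7, 2, 19, 12, 13, 11, 1, 0, 15, 5, 16, 8, 18, 17, 20, 3, 22, 23], [10, 3, 2, 8, 19, 15, 6, 7, 1, 4, 13, 16, 21, 0, 5, 14, 18, 12, 11, 9, 20, 17, 22, 23]]), (11, [[11, 8, 7, 2, 15, 17, 19, 1, 3, 0, 6, 4, 10, 14, 5, 9, 12, 21, 18, 16, 20, 13, 22, 23], [11, 13, 1, 21, 3, 5, 7, 19, 10, 2, 6, 12, 15, 14, 9, 17, 18, 0, 4, 8, 20, 16, 22, 23], [11, 16, 19, 0, 10, 9, 1, 7, 15, 21, 6, 18, 3, 14, 17, 5, 4, 2, 12, 13, 20, 8, 22, 23]]), (12, [[12, 11, 2, 21, 3, 9, 1, 0, 14, 7, 19, 13, 5, 17, 15, 10, 4, 6, 16, 8, 20, 18, 22, 23], [12, 18, 0, 6, 14, 15, 2, 1, 5, 21, 19, 4, 3, 17, 10, 9, 16, 7, 13, 11, 20, 8, 22, 23], [12, 8, 1, 7, 5, 10, 0, 2, 3, 6, 19, 16, 14, 17, 9, 15, 13, 21, 4, 18, 20, 11, 22, 23]]), (13, [[13, 12, 7, 21, 3,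 15, 2, 6, 17, 1, 0, 11, 9, 10, 5, 14, 16, 19, 18, 8, 20, 4, 22, 23], [13, 4, 6, 19, 17, 5, 7, 2, 9, 21, 0, 16, 3, 10, 14, 15, 18, 1, 11, 12, 20, 8, 22, 23], [13, 8, 2, 1, 9, 14, 6, 7, 3, 19, 0, 18, 17, 10, 15, 5, 11, 21, 16, 4, 20, 12, 22, 23]]), (14, [[14, 10, 1, 13, 2, 9, 7, 19, 21, 8, 11, 4, 0, 6, 17, 5, 12, 16, 18, 3, 20, 15, 22, 23], [14, 15, 19, 16, 21, 17, 1, 7, 0, 13, 11, 12, 2, 6, 5, 9, 18, 8, 4, 10, 20, 3, 22, 23], [14, 3, 7, 8, 0, 5, 19, 1, 2, 16, 11, 18, 21, 6, 9, 17, 4, 13, 12, 15, 20, 10, 22, 23]]), (15, [[15, 17, 6, 12, 0, 14, 1, 21, 7, 18, 16, 11, 19, 2, 3, 9, 8, 13, 4, 5, 20, 10, 22, 23], [15, 10, 21, 13, 7, 3, 6, 1, 19, 12, 16, 8, 0, 2, 9, 14, 4, 18, 11, 17, 20, 5, 22, 23], [15, 5, 1, 18, 19, 9, 21, 6, 0, 13, 16, 4, 7, 2, 14, 3, 11, 12,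 8, 10, 20, 17, 22, 23]]), (16, [[16, 12, 6, 7, 5, 9, 1, 21, 17, 0, 2, 8, 10, 15, 14, 3, 4, 19, 11, 18, 20, 13, 22, 23], [16, 13, 21, 19, 17, 14, 6, 1, 10, 7, 2, 4, 5, 15, 3, 9, 11, 0, 8, 12, 20, 18, 22, 23], [16, 18, 1, 0, 10, 3, 21, 6, 5, 19, 2, 11, 17, 15, 9, 14, 8, 7, 4, 13, 20, 12, 22, 23]]), (17, [[17, 14, 2, 11, 7, 15, 1, 0, 21, 8, 12, 16, 6, 19, 10, 9, 13, 18, 4, 3, 20, 5, 22, 23], [17, 5, 0, 18, 21, 10, 2, 1, 6, 11, 12, 13, 7, 19, 9, 15, 4, 8, 16, 14, 20, 3, 22, 23], [17, 3, 1, 8, 6, 9, 0, 2, 7, 18, 12, 4, 21, 19, 15, 10, 16, 11, 13, 5, 20, 14, 22, 23]]), (18, [[18, 13, 19, 1, 9, 15, 2, 21, 10, 6, 7, 8, 14, 5, 17, 3, 16, 0, 12, 4, 20, 11, 22, 23], [18, 11, 21, 0, 10, 17, 19, 2, 14, 1, 7, 16, 9, 5, 3, 15, 12, 6, 8, 13, 20, 4, 22, 23], [18, 4, 2, 6,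 14, 3, 21, 19, 9, 0, 7, 12, 10, 5, 15, 17, 8, 1, 16, 11, 20, 13, 22, 23]]), (19, [[19, 21, 2, 14, 8, 10, 1, 0, 11, 3, 17, 4, 18, 12, 9, 15, 16, 5, 13, 7, 20, 6, 22, 23], [19, 6, 0, 5, 11, 9, 2, 1, 18, 14, 17, 16, 8, 12, 15, 10, 13, 3, 4, 21, 20, 7, 22, 23], [19, 7, 1, 3, 18, 15, 0, 2, 8, 5, 17, 13, 11, 12, 10, 9, 4, 14, 16, 6, 20, 21, 22, 23]]), (21, [[21, 2, 19, 9, 16, 14, 0, 6, 4, 15, 3, 13, 18, 8, 10, 17, 12, 5, 11, 7, 20, 1, 22, 23], [21, 1, 6, 5, 4, 10, 19, 0, 18, 9, 3, 12, 16, 8, 17, 14, 11, 15, 13, 2, 20, 7, 22, 23], [21, 7, 0, 15, 18, 17, 6, 19, 16, 5, 3, 11, 4, 8, 14, 10, 13, 9, 12, 1, 20, 2, 22, 23]])]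

/-- Those among them commuting with the element. -/
def goodTabs : List (List ℕ) :=
  [[0, 1, 2, 3, 4, 5, 6, 7, 8, 9, 10, 11, 12, 13, 14, 15, 16, 17, 18, 19, 20, 21, 22, 23], [0, 21, 7, 17, 8, 14, 2, 6, 12, 3, 10, 16, 4, 13, 15, 5, 18, 9, 11, 1, 20, 19, 22, 23], [0, 19, 6, 9, 12, 15, 7, 2, 4, 17, 10, 18, 8, 13, 5, 14, 11, 3, 16, 21, 20, 1, 22, 23], [1, 2, 0, 14, 16, 3, 7, 21, 11, 15, 9, 18, 12, 4, 5, 10, 13, 17, 8, 19, 20, 6, 22, 23], [1, 6, 21, 17, 11, 5, 0, 7, 12, 14, 9, 13, 16, 4, 10, 3, 8, 15, 18, 2, 20, 19, 22, 23], [1, 19, 7, 15, 12, 10, 21, 0, 16, 17, 9, 8, 11, 4, 3, 5, 18, 14, 13, 6, 20, 2, 22, 23], [2, 19, 21, 10, 12, 9, 6, 1, 13, 17, 15, 11, 18, 16, 14, 3, 8, 5, 4, 7, 20, 0, 22, 23], [2, 0, 1, 5, 13, 14, 21, 6, 18, 10, 15, 8, 12, 16, 3, 9, 4, 17,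 11, 19, 20, 7, 22, 23], [2, 7, 6, 17, 18, 3, 1, 21, 12, 5, 15, 4, 13, 16, 9, 14, 11, 10, 8, 0, 20, 19, 22, 23], [6, 0, 19, 15, 13, 5, 1, 7, 16, 10, 14, 4, 8, 11, 9, 17, 12, 3, 18, 21, 20, 2, 22, 23], [6, 2, 7, 3, 16, 9, 19, 1, 8, 15, 14, 12, 13, 11, 17, 5, 18, 10, 4, 0, 20, 21, 22, 23], [6, 21, 1, 10, 8, 17, 7, 19, 13, 3, 14, 18, 16, 11, 5, 9, 4, 15, 12, 2, 20, 0, 22, 23], [7, 1, 19, 10, 4, 3, 2, 21, 13, 9, 5, 16, 11, 18, 15, 17, 12, 14, 8, 6, 20, 0, 22, 23], [7, 0, 21, 14, 13, 15, 19, 2, 11, 10, 5, 12, 4, 18, 17, 3, 8, 9, 16, 1, 20, 6, 22, 23], [7, 6, 2, 9, 11, 17, 21, 19, 4, 14, 5, 8, 13, 18, 3, 15, 16, 10, 12, 0, 20, 1, 22, 23], [19, 21, 2, 14, 8, 10, 1, 0, 11, 3, 17, 4, 18, 12, 9, 15, 16, 5, 13, 7, 20, 6, 22, 23], [19, 6, 0, 5, 11, 9, 2, 1, 18, 14, 17,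 16, 8, 12, 15, 10, 13, 3, 4, 21, 20, 7, 22, 23], [19, 7, 1, 3, 18, 15, 0, 2, 8, 5, 17, 13, 11, 12, 10, 9, 4, 14, 16, 6, 20, 21, 22, 23], [21, 2, 19, 9, 16, 14, 0, 6, 4, 15, 3, 13, 18, 8, 10, 17, 12, 5, 11, 7, 20, 1, 22, 23], [21, 1, 6, 5, 4, 10, 19, 0, 18, 9, 3, 12, 16, 8, 17, 14, 11, 15, 13, 2, 20, 7, 22, 23], [21, 7, 0, 15, 18, 17, 6, 19, 16, 5, 3, 11, 4, 8, 14, 10, 13, 9, 12, 1, 20, 2, 22, 23]]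

/-- Steps showing that seven points are a base. -/
def closeSteps7 : List (ℕ × List ℕ) :=
  [(1, [16262146, 5325835]), (2, [3416079, 12656663]), (4, [12656663, 5275709]), (5, [9543722, 8536111]), (6, [9506893, 11575377]), (7, [9465987, 9830549]), (8, [4223245, 7479572]), (9, [13771273, 8925710]), (11, [15747077, 12871690, 5842956]), (12, [13938692, 5902343]), (14, [6053905, 13811730]), (15, [4845570, 13938692]), (16, [13062145, 4845570]), (17, [13062145, 1302533]), (18, [13062145]), (19, [4845570]), (21, [])]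

/-- A basis of the fixed lattice, by values on the cycles. -/
def bTab : List (List ℤ) :=
  [[1, -1, -1, -1, -3, -1, 1, 1], [-2, -2, 0, -2, -2, 0, 0, 0], [1, -3, -1, -1, -1, 1, -1, 1], [1, -1, 3, -1, 1, -1, 1, 1], [-1, -1, -3, -1, -1, 1, 1, 1], [0, 0, -2, 0, 0, -2, -2, -2], [1, -1, -1, 3, 1, -1, 1, 1], [0, -2, 0, 0, 2, -2, 2, 0]]

/-- The inverse of its Gram matrix divided by eight, times 3. -/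
def gInv : List (List ℤ) :=
  [[2, -1, 1, -4, -3, -2, -2, 3], [-1, 2, -1, 2, 1, 1, 2, -2], [1, -1, 2, -4, -3, -2, -2, 3], [-4, 2, -4, 14, 10, 7, 6, -10], [-3, 1, -3, 10, 8, 5, 4, -7], [-2, 1, -2, 7, 5, 4, 3, -5], [-2, 2, -2, 6, 4, 3, 4, -5], [3, -2, 3, -10, -7, -5, -5, 8]]

/-- An integral left inverse of the basis, up to the factor `bDet`. -/
def bAdj : List (List ℤ) :=
  [[1024, -1536, 1024, -1024, -1024, -512, -1024, 1024], [0, -512, -1024, 1024, 1024, 512, 0, -1024], [0, 512, 0, 0, -1024, -512, 0, 0], [0, 512, 0, -1024, -1024, -512, 1024, 0], [-1024, -512, 0, 1024, 1024, 512, 0, 0], [0, -512, 1024, -2048, -1024, -1536, -1024, 1024], [1024, -512, 0, -2048, -1024, -1536, -1024, 2048], [-1024, 512, -1024, 4096, 3072, 1536, 2048, -3072]]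

/-- The factor. -/
def bDet : ℤ :=
  4096

/-- Vectors of squared length 48 in 120 classes. -/
def rootTab : List (List ℤ) :=
  [[-1, 1, 1, 1, 3, 1, -1, -1], [-2, -2, 0, -2, -2, 0, 0, 0], [-3, -1, 1, -1, 1, 1, -1, -1], [-1, 3, 1, 1, 1, -1, 1, -1], [0, -2, 0, 0, 2, 2, -2, 0], [-3, 1, 1, -1, -1, -1, 1, -1], [-1, 1, -3, 1, -1, 1, -1, -1], [-1, -1, -1, 1, 1, -3, -1, 1], [-1, -1, -3, -1, -1, 1, 1, 1], [-2, 0, -2, 0, 2, 2, 0, 0], [-1, -1, 3, -1, -1, -1, -1, -1], [-2, 2, -2, 0, 0, 0, 2, 0], [0, -2, 0, -2, 0, 0, 2, 2], [-1, -1, 1, -1, 3, 1, 1, 1], [-2, 0, 0, 0, -2, 0, -2, -2], [-1, 1, 1, -1, 1, -1, 3, 1], [0, 0, -2, 0, 0, -2, -2, -2], [-2, 0, -2, 2, 0, 0, 0, 2], [-1, 1, -1, 1, -1, 3, 1, 1], [-1, -1, 1, 1, 1, -1, 1, 3], [0, -2, 0, 2, 0, 0, -2, 2], [-3, -1, 1, 1,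 -1, -1, -1, 1], [0, 0, 0, -2, 2, 2, 0, -2], [-1, 1, 1, 3, 1, -1, -1, 1], [0, -2, -2, -2, 0, -2, 0, 0], [-1, -1, -1, -1, 3, -1, -1, -1], [-2, 0, 2, 0, -2, 2, 0, 0], [-1, 1, -1, -1, 1, -3, 1, -1], [-1, 1, 1, -3, -1, 1, -1, -1], [-1, -3, -1, 1, -1, -1, 1, 1], [-2, -2, 0, 2, 2, 0, 0, 0], [-2, 0, 0, 2, 0, -2, 2, 0], [-1, 1, 1, 1, -1, 1, 3, -1], [-1, -1, 1, 1, 1, 3, 1, -1], [0, -2, 0, 0, -2, 2, 2, 0], [-2, 0, 0, -2, 0, -2, -2, 0], [0, -2, 2, 2, 0, -2, 0, 0], [0, 0, 0, -2, 2, -2, 0, 2], [-1, -1, -1, 3, -1, -1, -1, -1], [-1, 1, -3, -1, 1, -1, -1, 1], [0, 0, -2, 0, 0, 2, -2, 2], [0, -2, 2, 0, 2, 0, 0, -2], [-1, 3, -1, 1, 1, 1, -1, 1], [-3, 1, -1, -1, -1, 1, -1, 1], [-1, 1, -1, 1, -1, -1, 1, -3], [-1, -1, -1, 1, 1, 1, -1, -3], [0, -2, -2, 0, -2, 0, 0, -2], [-2, 0,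 2, -2, 0, 0, 0, 2], [-2, 0, 0, 0, 2, 0, 2, -2], [-1, -1, -1, -1, -1, -1, 3, -1], [-1, -1, 1, -1, -1, 1, -3, 1], [-1, -3, -1, -1, 1, 1, 1, -1], [-1, 1, 1, -1, -3, -1, -1, 1], [-2, 2, 2, 0, 0, 0, -2, 0], [-1, -1, 1, 3, -1, 1, 1, 1], [-1, 1, -1, -1, 1, 1, 1, 3], [0, -2, 0, 0, 2, -2, 2, 0], [0, 0, -2, 0, 0, 2, 2, -2], [-1, -1, -3, 1, 1, -1, 1, -1], [-1, 1, -1, 1, -1, -1, -3, 1], [-2, 2, 0, 0, 0, -2, 0, 2], [-1, -1, 1, -1, -1, 1, 1, -3], [-2, 0, 0, 0, 2, 0, -2, 2], [-1, -1, -1, -1, -1, -1, -1, 3], [0, 0, 0, -2, -2, 2, 0, 2], [-1, 1, 1, -1, 1, 3, -1, 1], [-2, -2, 0, 0, 0, -2, 0, -2], [-1, 3, 1, -1, -1, 1, 1, 1], [-1, -1, -1, -3, 1, 1, -1, 1], [-2, 0, 2, 2, 0, 0, 0, -2], [-1, -1, 1, 1, -3, -1, 1, -1], [-1, 1, -1, -3, -1, -1, 1, 1], [-2, 2, 0, -2, 2, 0, 0, 0], [-1,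 -3, 1, 1, -1, 1, -1, -1], [-1, -1, -1, 1, 1, 1, 3, 1], [-1, 1, 1, 1, -1, 1, -1, 3], [-1, 1, -1, 3, 1, 1, 1, -1], [0, 0, -2, 2, -2, 0, 2, 0], [-3, -1, -1, 1, -1, 1, 1, -1], [0, -2, -2, 2, 0, 2, 0, 0], [0, 0, -2, -2, -2, 0, -2, 0], [-1, 1, -1, -1, 1, 1, -3, -1], [-2, -2, 2, 0, 0, 0, 2, 0], [-1, 3, -1, -1, -1, -1, -1, -1], [-1, -1, 1, -3, 1, -1, 1, -1], [-1, -1, -1, 1, -3, 1, -1, 1], [-2, 0, 0, 2, 0, 2, -2, 0], [-2, 2, 0, 2, -2, 0, 0, 0], [-2, 0, -2, -2, 0, 0, 0, -2], [0, -2, 2, 0, -2, 0, 0, 2], [-1, -1, 3, 1, 1, 1, -1, 1], [-1, 1, 3, 1, -1, -1, 1, 1], [0, 0, -2, -2, 2, 0, 2, 0], [0, -2, 0, 2, 0, 0, 2, -2], [-1, 1, 1, -1, 1, -1, -1, -3], [0, 0, 0, -2, -2, -2, 0, -2], [-2, -2, 0, 0, 0, 2, 0, 2], [0, -2, 0, -2, 0, 0, -2, -2], [-2, 0, 0, 0, -2, 0, 2, 2], [-3, 1,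 1, 1, 1, 1, 1, 1], [0, -2, -2, 0, 2, 0, 0, 2], [0, 0, -2, 0, 0, -2, 2, 2], [-1, 1, -1, 1, 3, -1, 1, 1], [-3, -1, -1, -1, 1, -1, 1, 1], [-2, 0, 0, -2, 0, 2, 2, 0], [0, -2, 0, 0, -2, -2, -2, 0], [-1, -1, 1, 1, 1, -1, -3, -1], [-1, 1, 1, 1, -1, -3, -1, -1], [-2, 2, 0, 0, 0, 2, 0, -2], [-1, 1, -1, -1, -3, 1, 1, -1], [-1, -3, 1, -1, 1, -1, -1, 1], [-1, -1, -1, -1, -1, 3, -1, -1], [-1, -1, 1, -1, -1, -3, 1, 1], [-2, 0, 2, 0, 2, -2, 0, 0], [-1, 1, 3, -1, 1, 1, 1, -1], [0, 0, -2, 2, 2, 0, -2, 0], [-2, -2, -2, 0, 0, 0, -2, 0], [0, -2, 2, -2, 0, 2, 0, 0], [-2, 0, -2, 0, -2, -2, 0, 0], [-3, 1, -1, 1, 1, -1, -1, -1]]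

/-- The class of the frame. -/
def frameKey : ℕ :=
  34

/-- Monomial factors of the third generator: table, inverse table, signs. -/
def wordTabs : List (List ℕ × List ℕ × ℕ) :=
  [([13, 7, 8, 4, 18, 6, 0, 5, 22, 16, 17, 20, 19, 15, 23, 14, 1, 2, 9, 10, 21, 11, 3, 12], [6, 16, 17, 22, 3, 7, 5, 1, 2, 18, 19, 21, 23, 0, 15, 13, 9, 10, 4, 12, 11, 20, 8, 14], 13242201), ([19, 4, 5, 22, 3, 16, 12, 11, 17, 2, 6, 13, 18, 14, 1, 21, 0, 20, 7, 23, 15, 9, 10, 8], [16, 14, 9, 4, 1, 2, 10, 18, 23, 21, 22, 7, 6, 11, 13, 20, 5, 8, 12, 0, 17, 15, 3, 19], 5296705), ([0, 1, 13, 4, 22, 9, 7, 23, 19, 18, 16, 11, 2, 17, 3, 8, 21, 15, 10, 12, 5, 20, 6, 14], [0, 1, 12, 14, 3, 20, 22, 6, 15, 5, 18, 11, 19, 2, 23, 17, 10, 13, 9, 8, 21, 16, 4, 7], 2232654), ([13, 20, 1, 12, 19,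 14, 2, 18, 4, 8, 11, 10, 5, 9, 7, 22, 6, 23, 17, 3, 15, 21, 16, 0], [23, 2, 6, 19, 8, 12, 16, 14, 9, 13, 11, 10, 3, 0, 5, 20, 22, 18, 7, 4, 1, 21, 15, 17], 15876796)]

/-- The permutation of the first generator and its inverse. -/
def genPerm : List ℕ × List ℕ :=
  ([0, 23, 21, 9, 22, 14, 19, 6, 4, 20, 10, 12, 16, 13, 17, 3, 8, 15, 11, 2, 5, 1, 18, 7], [0, 21, 19, 15, 8, 20, 7, 23, 16, 3, 10, 18, 11, 13, 5, 17, 12, 14, 22, 6, 9, 2, 4, 1])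

/-- The signs of the second generator. -/
def genSign : ℕ :=
  13659731

/-- Classes of the images of the basis under the generators. -/
def genImgs : List (List ℕ) :=
  [[234, 79, 53, 113, 115, 249, 216, 16], [40, 154, 175, 164, 192, 184, 66, 228], [241, 67, 188, 248, 203, 97, 176, 234]]

/-- The permutations of the nine subspaces. -/
def genNine : List (List ℕ) :=
  [[5, 8, 6, 7, 2, 1, 3, 0, 4], [2, 1, 6, 5, 3, 0, 7, 4, 8], [6, 1, 4, 5, 2, 3, 0, 8, 7]]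

/-- Nine subspaces. -/
def spreadTab : List (List ℕ) :=
  [[0, 7, 35, 36, 88, 95, 123, 124, 137, 142, 170, 173, 209, 214, 242, 245], [0, 9, 34, 43, 65, 72, 99, 106, 133, 140, 167, 174, 196, 205, 230, 239], [0, 10, 23, 29, 38, 44, 49, 59, 68, 78, 83, 89, 98, 104, 117, 127], [0, 11, 21, 30, 33, 42, 52, 63, 129, 138, 148, 159, 160, 171, 181, 190], [0, 12, 37, 41, 87, 91, 114, 126, 146, 158, 183, 187, 197, 201, 224, 236], [0, 13, 22, 27, 71, 74, 81, 92, 134, 139, 144, 157, 193, 204, 215, 218], [0, 14, 48, 62, 80, 94, 96, 110, 131, 141, 179, 189, 211, 221, 227, 237], [0, 19, 46, 61, 69, 86, 107, 120, 130, 145, 172, 191, 199, 212, 233, 250], [0, 31, 45, 50, 75, 84, 102, 121, 132, 155, 169, 182, 207, 208, 226, 253]]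

/-- Words for seven cycles of length three. -/
def wordTab : List (List ℕ) :=
  [[1, 1, 2, 1, 0, 1, 1, 1, 1, 0, 1], [1, 2, 0, 1, 1, 0, 2, 0, 0, 2], [1, 0, 0, 2, 1, 0, 1, 0, 0, 2, 1, 0], [0, 1, 0, 2, 0, 0, 0, 0, 1], [1, 0, 0, 1, 2, 1, 0, 0, 0, 0], [2, 1, 1, 0, 0, 2, 1, 1, 2, 0, 1], [0, 0, 2, 1, 1, 2, 0, 1, 2, 1, 1]]

/-- The images of the frame under the third generator. -/
def frameImgs : List (List ℤ) :=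
  [[0, 2, 0, 2, -2, 0, 0, -4, 2, -2, 0, 0, 2, 0, 0, 0, 0, 2, 0, -2, -2, 2, -2, 2], [2, 0, -2, 0, 0, 2, -2, -2, 0, 0, 2, 2, 0, 2, 2, 2, 2, 0, 2, 0, 0, 0, 0, -4], [0, -2, 0, -2, 2, 0, -4, 0, -2, 2, 0, 0, 2, 0, 0, 0, 0, 2, 0, 2, -2, 2, -2, 2], [0, 2, 0, -2, 2, 0, 0, 0, 2, -2, 4, 0, 2, 0, 0, 0, 0, -2, 0, 2, 2, 2, 2, 2], [2, 0, 2, 0, 0, 2, 2, 2, 0, 0, 2, -2, 0, 2, 2, 2, -2, 0, -2, 0, 0, 0, -4, 0], [-2, 0, -2, 0, 0, -2, 2, 2, 0, 0, 2, 2, 0, -2, 2, 2, -2, 4, 2, 0, 0, 0, 0, 0], [2, 4, 2, 0, 0, -2, -2, 2, 0, 0, -2, 2, 0, -2, 2, 2, 2, 0, -2, 0, 0, 0, 0, 0], [2, 0, 2, 0, 0, 2, 2, -2, 0, 0, -2, 2, 0, -2, 2, -2, -2, 0, 2, 4, 0, 0, 0, 0], [0, 2, 0, 2, -2, 0, 0, 0, -2, 2, 0, 0, -2, 4, 0, 0, 0, 2, 0, 2, 2, 2, 2, 2], [2, 0, 2, 0, 0, -2, 2, 2, 0, 0, 2, 2, 0, 2, -2, -2, 2,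 0, 2, 0, -4, 0, 0, 0], [0, -2, 0, 2, -2, -4, 0, 0, 2, 2, 0, 0, 2, 0, 0, 0, 0, -2, 0, 2, 2, 2, -2, -2], [-2, 0, 2, 0, 4, -2, 2, -2, 0, 0, -2, -2, 0, 2, 2, 2, 2, 0, 2, 0, 0, 0, 0, 0], [2, 0, -2, 0, 0, -2, 2, -2, -4, 0, 2, -2, 0, -2, 2, -2, 2, 0, -2, 0, 0, 0, 0, 0], [0, -2, 0, 2, 2, 0, 0, 0, 2, -2, 0, 0, -2, 0, 0, 0, 0, 2, -4, 2, -2, 2, 2, -2], [-2, 0, 2, 0, 0, 2, 2, -2, 0, 4, 2, 2, 0, -2, -2, 2, 2, 0, -2, 0, 0, 0, 0, 0], [0, 2, 0, 2, 2, 0, 0, 0, -2, -2, 0, 0, 2, 0, -4, 0, 0, 2, 0, 2, 2, -2, -2, -2], [0, 2, 0, -2, -2, 0, 0, 0, 2, 2, 0, -4, 2, 0, 0, 0, 0, 2, 0, 2, -2, -2, 2, -2], [2, 0, -2, -4, 0, -2, 2, -2, 0, 0, -2, 2, 0, 2, -2, 2, -2, 0, -2, 0, 0, 0, 0, 0], [-2, 0, -2, 0, 0, 2, 2, 2, 0, 0, -2, 2, 4, 2, 2, -2, 2, 0, -2, 0, 0, 0, 0, 0], [-2, 0, 2, 0, 0, -2,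 -2, -2, 0, 0, 2, 2, 0, 2, 2, -2, -2, 0, -2, 0, 0, -4, 0, 0], [0, -2, 0, 2, -2, 0, 0, 0, -2, -2, 0, 0, 2, 0, 0, 4, 0, -2, 0, 2, -2, -2, 2, 2], [4, -2, 0, 2, 2, 0, 0, 0, 2, 2, 0, 0, 2, 0, 0, 0, 0, 2, 0, -2, 2, -2, 2, 2], [0, -2, 0, -2, -2, 0, 0, 0, 2, -2, 0, 0, -2, 0, 0, 0, 4, 2, 0, 2, 2, -2, -2, 2], [0, -2, 4, -2, -2, 0, 0, 0, -2, -2, 0, 0, 2, 0, 0, 0, 0, 2, 0, -2, 2, 2, 2, -2]]

/-- The images of the basis under the third generator. -/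
def basisImgs : List (List ℤ) :=
  [[0, -2, 0, 0, -2, -2, -2, -2, 0, -2, 0, -2, -2, 0, -2, 0, 0, -2, -2, -2, 0, 0, 0, 0], [-2, 0, 0, -2, 0, 0, -2, 0, -2, 0, -2, -2, -2, -2, -2, 0, 0, -2, 0, -2, 0, -2, 0, 0], [-3, -1, 1, 1, -1, -1, -1, -1, 1, -1, -3, -1, -1, -3, -1, 1, 1, -1, -1, -1, 1, 1, 1, 1], [-1, -1, -1, -1, -1, -1, -1, -1, -1, -1, -1, -1, 3, -1, -1, -1, -1, 3, -1, 3, -1, -1, -1, -1], [-1, -1, 1, -1, -1, -1, 1, -1, -1, -1, -1, 1, -3, -1, 1, 1, 1, -3, -1, -3, 1, -1, 1, 1], [0, 0, -2, 2, 0, 2, 0, 2, 2, 0, 0, 0, -2, 0, 0, -2, -2, -2, 2, -2, 0, 2, 0, 0], [1, -1, -1, 1, -1, -1, 1, -1, 1, -1, 1, 1, 1, 1, 1, -1, -1, 1, -1, 1, 3, 1, 3, 3], [-1, -1, -3, -1, -1, -1, 1, -1, -1, -1, -1, 1, 1, -1, 1, -3, -3, 1, -1, 1, 1, -1, 1, 1]]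

end Cfsg.Agent.Monster4
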