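import Cfsg.Agent.Lib.Golay.Order
import Cfsg.Agent.Lib.Leech.Counts
import Cfsg.Agent.Monster4.Tables

/-!
An element of cycle type `3^8` of the Mathieu group `M24`: its centralizer has at most 504 elements, and
every element of order 3 is conjugate to it or central in a Sylow 3-subgroup.
-/

set_option autoImplicit false
set_option maxRecDepth 100000

namespace Cfsg.Agent.Monster4

open Cfsg
open Cfsg.Agent.Golay (idx pt toSet idx_lt pt_idx idx_pt Tab tab_permOf permOf isPermTab checkAut inCode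
  comp idTab closeCheck eq_one_of_closeCheck popc maps octad_mem_iff octad_unique card_toSet toSet_inter
  mem_toSet tab_one tab_unique getD_map_range)
open scoped Pointwise

/-- The permutation of a table, or the identity. -/
noncomputable def tabEl (l : List ℕ) : M24 :=
  if h : isPermTab l = true ∧ checkAut l = true then
    ⟨permOf l h.1, (tab_permOf h.1).mem_M24 h.2⟩ else 1

/-- A valid table. -/
def validTab (l : List ℕ) : Bool := isPermTab l && checkAut l

theorem tab_tabEl {l : List ℕ} (h : validTab l = true) : Tab (tabEl l).1 l := by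
  simp only [validTab, Bool.and_eq_true] at h
  rw [tabEl, dif_pos h]
  exact tab_permOf h.1

theorem length_comp (a b : List ℕ) : (comp a b).length = 24 := by simp [comp]

theorem eq_of_tabs {σ τ : M24} {a b : List ℕ} (hσ : Tab σ.1 a) (hτ : Tab τ.1 b) (h : a = b) : σ = τ :=
  Subtype.ext (tab_unique hσ (h ▸ hτ))

theorem tab_congr {σ τ : M24} {a b : List ℕ} (hσ : Tab σ.1 a) (hτ : Tab τ.1 b) (h : σ = τ) :
    ∀ i < 24, a.getD i 0 = b.getD i 0 := fun i hi => by
  rw [← hσ i hi, ← hτ i hi, h]

/-- The element of cycle type `3^8`. -/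
noncomputable def sig : M24 := tabEl sigTab

theorem sig_valid : validTab sigTab = true := by decide +kernel

theorem tab_sig : Tab sig.1 sigTab := tab_tabEl sig_valid

theorem sig_cube : sig ^ 3 = 1 := by
  rw [pow_succ, pow_two]
  exact eq_of_tabs ((tab_sig.mul tab_sig).mul tab_sig) tab_one (by decide +kernel)

theorem sig_ne_one : sig ≠ 1 := fun h => by
  have := tab_congr tab_sig tab_one h 0 (by norm_num)
  revert this
  decide +kernel

theorem orderOf_sig : orderOf sig = 3 :=
  haveI : Fact (Nat.Prime 3) := ⟨by norm_num⟩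
  orderOf_eq_prime sig_cube sig_ne_one

/-- An element commuting with `sig`. -/
theorem comm_apply {g : M24} (hg : g * sig = sig * g) (p : GolayPt) : g.1 (sig.1 p) = sig.1 (g.1 p) :=
  DFunLike.congr_fun (congrArg Subtype.val hg) p

/-! ### The centralizer -/

/-- The six base points, in two cycles. -/
def sixPts : List ℕ := [23, 22, 20, 0, 13, 10]

/-- The seventh base point. -/
def sevenPt : ℕ := 3

theorem base_facts :
    closeCheck ((sixPts ++ [sevenPt]).foldl (fun a i => a ||| 2 ^ i) 0) closeSteps7 = true ∧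
    inCode octM = true ∧ popc octM = 8 ∧
    (∀ p : GolayPt, ((sixPts ++ [sevenPt]).foldl (fun a i => a ||| 2 ^ i) 0).testBit (idx p) = true →
      idx p ∈ sixPts ++ [sevenPt]) ∧
    (∀ k : Fin 5, octM.testBit (sixPts.getD k.val 0) = true) ∧
    octM.testBit sevenPt = true := by
  decide +kernel

theorem cand_facts : ∀ e ∈ candTabs,
    (∀ t ∈ e.2, validTab t = true ∧
      (List.range 6).all (fun k => t.getD (sixPts.getD k 0) 0 ==
        [23, 22, 20, e.1, sigTab.getD e.1 0, sigTab.getD (sigTab.getD e.1 0) 0].getD k 0) = true ∧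
      (t ∈ goodTabs ∨ (List.range 24).any (fun i =>
        (comp t sigTab).getD i 0 != (comp sigTab t).getD i 0) = true)) ∧
    (∀ i : Fin 24, octM.testBit i.val = true → i.val ∉ sixPts →
      ∃ t ∈ e.2, t.getD sevenPt 0 = (e.2.getD 0 []).getD i.val 0) ∧
    e.2.getD 0 [] ∈ e.2 := by
  decide +kernel

theorem cand_complete : ∀ b : Fin 24, b.val ∉ [23, 22, 20] → ∃ e ∈ candTabs, e.1 = b.val := by
  decide +kernel

theorem cand_seven : ∀ i : Fin 24, octM.testBit i.val = true → i.val ∈ sixPts →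
    ∃ k : Fin 5, i.val = sixPts.getD k.val 0 := by
  decide +kernel

theorem sig_six : sigTab.getD 23 0 = 22 ∧ sigTab.getD 22 0 = 20 ∧ sigTab.getD 20 0 = 23 ∧
    sigTab.getD 0 0 = 13 ∧ sigTab.getD 13 0 = 10 ∧ goodTabs.length = 21 := by decide +kernel

theorem sig_pt {i : ℕ} (hi : i < 24) : sig.1 (pt i) = pt (sigTab.getD i 0) := by
  rw [tab_sig.apply, idx_pt hi]

/-- An element commuting with `sig` and fixing the first point is one of 21 elements. -/
theorem mem_good {g : M24} (hg : g * sig = sig * g) (h23 : g.1 (pt 23) = pt 23) :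
    ∃ t ∈ goodTabs, g = tabEl t := by
  classical
  obtain ⟨s1, s2, s3, s4, s5, -⟩ := sig_six
  have h22 : g.1 (pt 22) = pt 22 := by
    rw [← s1, ← sig_pt (by norm_num), comm_apply hg, h23]
  have h20 : g.1 (pt 20) = pt 20 := by
    rw [← s2, ← sig_pt (by norm_num), comm_apply hg, h22]
  set b : Fin 24 := ⟨idx (g.1 (pt 0)), idx_lt _⟩ with hb
  have h0 : g.1 (pt 0) = pt b.val := (pt_idx _).symm
  have hbne : b.val ∉ [23, 22, 20] := by
    intro hmem
    simp only [List.mem_cons, List.not_mem_nil, or_false] at hmem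
    have key : ∀ k, k < 24 → k ≠ 0 → g.1 (pt k) = pt k → b.val ≠ k := by
      intro k hk hk0 hfix e
      have h' := g.1.injective (h0.trans ((congrArg pt e).trans hfix.symm))
      have := congrArg idx h'
      rw [idx_pt (by norm_num), idx_pt hk] at this
      exact hk0 this.symm
    rcases hmem with e | e | e
    · exact key 23 (by norm_num) (by norm_num) h23 e
    · exact key 22 (by norm_num) (by norm_num) h22 e
    · exact key 20 (by norm_num) (by norm_num) h20 e
  have h13 : g.1 (pt 13) = pt (sigTab.getD b.val 0) := by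
    rw [← s4, ← sig_pt (by norm_num), comm_apply hg, h0, sig_pt b.isLt]
  have h10 : g.1 (pt 10) = pt (sigTab.getD (sigTab.getD b.val 0) 0) := by
    rw [← s5, ← sig_pt (by norm_num), comm_apply hg, h13, sig_pt (tab_sig.lt b.isLt)]
  obtain ⟨⟨eb, ts⟩, he, heb⟩ := cand_complete b hbne
  obtain ⟨hts, hcov, hhead⟩ := cand_facts _ he
  simp only at heb hts hcov hhead
  have hsix : ∀ t ∈ ts, ∀ k : Fin 6, g.1 (pt (sixPts.getD k.val 0)) = (tabEl t).1 (pt (sixPts.getD k.val 0)) := by
    intro t ht k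
    obtain ⟨hv, himg, -⟩ := hts t ht
    simp only [List.all_eq_true, List.mem_range, beq_iff_eq] at himg
    have hk := himg k.val k.isLt
    have hlt : sixPts.getD k.val 0 < 24 := by
      fin_cases k <;> decide
    rw [(tab_tabEl hv).apply, idx_pt hlt, hk, heb]
    fin_cases k <;> simp [sixPts, h23, h22, h20, h0, h13, h10]
  set t1 := ts.getD 0 [] with ht1
  obtain ⟨hcl, hO, hO8, hbase, hO5, hO7⟩ := base_facts
  have hOmem : toSet octM ∈ octads := octad_mem_iff.2 ⟨octM, hO, hO8, rfl⟩
  have himgO : ∀ h : M24, h.1 • toSet octM ∈ octads := by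
    intro h
    refine ⟨Golay.mem_setSystemAut_iff.1 h.2 _ hOmem.1, ?_⟩
    rw [Finset.card_smul_finset]
    exact Golay.card_of_mem_octads hOmem
  let five : Finset GolayPt := Finset.univ.image fun k : Fin 5 => pt (sixPts.getD k.val 0)
  have hfive : five.card = 5 := by decide +kernel
  have hfiveO : five ⊆ toSet octM := by
    intro p hp
    obtain ⟨k, -, rfl⟩ := Finset.mem_image.1 hp
    rw [mem_toSet, idx_pt (by fin_cases k <;> decide)]
    exact hO5 k
  have heq : g.1 • toSet octM = (tabEl t1).1 • toSet octM := by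
    refine octad_unique (himgO g) (himgO (tabEl t1)) (s := g.1 • five)
      (by rw [Finset.card_smul_finset, hfive])
      (Finset.smul_finset_subset_smul_finset hfiveO) ?_
    intro p hp
    obtain ⟨q, hq, rfl⟩ := Finset.mem_smul_finset.1 hp
    obtain ⟨k, -, rfl⟩ := Finset.mem_image.1 hq
    refine Finset.mem_smul_finset.2 ⟨_, hfiveO hq, ?_⟩
    exact (hsix t1 hhead ⟨k.val, by omega⟩).symm
  have hx : pt sevenPt ∈ toSet octM := by rw [mem_toSet, idx_pt (by decide)]; exact hO7
  have hgx : g.1 (pt sevenPt) ∈ (tabEl t1).1 • toSet octM := by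
    rw [← heq]; exact Finset.smul_mem_smul_finset hx
  obtain ⟨q, hq, hqe⟩ := Finset.mem_smul_finset.1 hgx
  have hqbit : octM.testBit (idx q) = true := mem_toSet.1 hq
  have hqn : idx q ∉ sixPts := by
    intro hmem
    obtain ⟨k, hk⟩ := cand_seven ⟨idx q, idx_lt q⟩ hqbit hmem
    have h1 := hsix t1 hhead ⟨k.val, by omega⟩
    simp only at hk h1
    rw [← hk, pt_idx] at h1
    rw [Equiv.Perm.smul_def, ← h1] at hqe
    have h2 := congrArg idx (g.1.injective hqe)
    rw [idx_pt (by decide)] at h2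
    rw [h2] at hmem
    revert hmem
    decide
  obtain ⟨t, ht, htx⟩ := hcov ⟨idx q, idx_lt q⟩ hqbit hqn
  have hv1 := (hts t1 hhead).1
  have hv := (hts t ht).1
  have hseven : g.1 (pt sevenPt) = (tabEl t).1 (pt sevenPt) := by
    rw [← hqe, Equiv.Perm.smul_def, (tab_tabEl hv1).apply, (tab_tabEl hv).apply, idx_pt (by decide)]
    exact congrArg pt htx.symm
  have hgt : g = tabEl t := by
    have h := eq_one_of_closeCheck (g := ((tabEl t)⁻¹ * g : M24).1) ((tabEl t)⁻¹ * g).2 _ _ hcl ?_
    · exact (inv_mul_eq_one.1 (Subtype.ext h : (tabEl t)⁻¹ * g = 1)).symm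
    · intro p hp
      rw [mem_toSet] at hp
      have hp' := hbase p hp
      show ((tabEl t).1)⁻¹ (g.1 p) = p
      rw [Equiv.Perm.inv_def, Equiv.symm_apply_eq]
      rw [List.mem_append, List.mem_singleton] at hp'
      rcases hp' with hp' | hp'
      · obtain ⟨k, hk, hk'⟩ := List.getElem_of_mem hp'
        have h := hsix t ht ⟨k, hk⟩
        rw [List.getD_eq_getElem _ _ hk, hk', pt_idx] at h
        exact h
      · rw [← pt_idx p, hp']
        exact hseven
  refine ⟨t, (hts t ht).2.2.resolve_right fun hne => ?_, hgt⟩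
  simp only [List.any_eq_true, List.mem_range, bne_iff_ne] at hne
  obtain ⟨i, hi, hne⟩ := hne
  apply hne
  exact tab_congr (σ := tabEl t * sig) (τ := sig * tabEl t) ((tab_tabEl hv).mul tab_sig)
    (tab_sig.mul (tab_tabEl hv)) (hgt ▸ hg) i hi

theorem card_cent_sig : Nat.card (Subgroup.centralizer ({sig} : Set M24)) ≤ 504 := by
  classical
  set C := Subgroup.centralizer ({sig} : Set M24) with hC
  have h1 : Nat.card (MulAction.stabilizer C (pt 23)) ≤ 21 := by
    have hle : ∀ g : MulAction.stabilizer C (pt 23), ∃ t : Fin 21, (g : C).1 = tabEl (goodTabs.getD t.val []) := by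
      intro g
      obtain ⟨t, ht, e⟩ := mem_good (Subgroup.mem_centralizer_singleton_iff.1 (g : C).2)
        (MulAction.mem_stabilizer_iff.1 g.2)
      obtain ⟨k, hk, hk'⟩ := List.getElem_of_mem ht
      refine ⟨⟨k, sig_six.2.2.2.2.2 ▸ hk⟩, ?_⟩
      rw [e, List.getD_eq_getElem _ _ hk, hk']
    choose f hf using hle
    have hinj : Function.Injective f := fun a b h =>
      Subtype.ext (Subtype.ext ((hf a).trans (h ▸ (hf b).symm)))
    simpa using Nat.card_le_card_of_injective f hinj
  have h2 : (MulAction.stabilizer C (pt 23)).index ≤ 24 := by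
    rw [MulAction.index_stabilizer]
    exact (Set.ncard_le_card _).trans (by rw [Nat.card_eq_fintype_card, Leech.card_pt])
  have h3 := (MulAction.stabilizer C (pt 23)).card_mul_index
  calc Nat.card C = _ := h3.symm
    _ ≤ 21 * 24 := Nat.mul_le_mul h1 h2
    _ = 504 := by norm_num

/-! ### The Sylow 3-subgroup -/

theorem syl_facts :
    (∀ l ∈ sylTabs, validTab l = true) ∧ (∀ l ∈ sylInv, validTab l = true) ∧
    (∀ a ∈ sylTabs, ∀ b ∈ sylTabs, comp a b ∈ sylTabs) ∧
    idTab ∈ sylTabs ∧ sylTabs.length = 27 ∧ sylTabs.Nodup ∧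
    (∀ i : Fin 27, comp (sylTabs.getD i.val []) (sylInv.getD i.val []) = idTab ∧
      sylInv.getD i.val [] ∈ sylTabs) := by
  decide +kernel

theorem wit_facts : ∀ i : Fin 27,
    validTab (witTabs.getD i.val ([], 0)).1 = true ∧
    ((witTabs.getD i.val ([], 0)).2 = 0 ∧
        comp (witTabs.getD i.val ([], 0)).1 (sylTabs.getD i.val []) =
          comp sigTab (witTabs.getD i.val ([], 0)).1 ∨
      ((witTabs.getD i.val ([], 0)).2 = 3 ∧ sylTabs.getD i.val [] = idTab) ∨
      ∃ k : Fin 2, (witTabs.getD i.val ([], 0)).2 = k.val + 1 ∧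
        comp (witTabs.getD i.val ([], 0)).1 (sylTabs.getD i.val []) =
          comp (sylTabs.getD (centIdx.getD k.val 0) []) (witTabs.getD i.val ([], 0)).1) := by
  decide +kernel

theorem cent_facts : ∀ k : Fin 2, centIdx.getD k.val 0 < 27 ∧ ∀ b ∈ sylTabs,
    comp (sylTabs.getD (centIdx.getD k.val 0) []) b = comp b (sylTabs.getD (centIdx.getD k.val 0) []) := by
  decide +kernel

/-- The elements of the Sylow subgroup. -/
noncomputable def sylSet : Set M24 := {g | ∃ l ∈ sylTabs, Tab g.1 l}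

/-- A Sylow 3-subgroup of `M24`. -/
noncomputable def syl : Subgroup M24 where
  carrier := sylSet
  one_mem' := ⟨idTab, syl_facts.2.2.2.1, tab_one⟩
  mul_mem' := fun ⟨a, ha, h1⟩ ⟨b, hb, h2⟩ => ⟨comp a b, syl_facts.2.2.1 a ha b hb, h1.mul h2⟩
  inv_mem' := by
    rintro g ⟨l, hl, hg⟩
    obtain ⟨i, hi, rfl⟩ := List.getElem_of_mem hl
    rw [← List.getD_eq_getElem _ [] hi] at hg
    have hi' : i < 27 := syl_facts.2.2.2.2.1 ▸ hi
    obtain ⟨he, hmem⟩ := syl_facts.2.2.2.2.2.2 ⟨i, hi'⟩
    have hj := tab_tabEl (syl_facts.1 _ hmem)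
    refine ⟨_, hmem, ?_⟩
    have e : g⁻¹ = tabEl (sylInv.getD i []) :=
      inv_eq_of_mul_eq_one_right (eq_of_tabs (hg.mul hj) tab_one he)
    rw [e]
    exact hj

theorem card_syl : Nat.card syl = 27 := by
  have hv := syl_facts.1
  have hlen : sylTabs.length = 27 := syl_facts.2.2.2.2.1
  let f : Fin sylTabs.length → syl := fun i =>
    ⟨tabEl (sylTabs[i.val]), _, List.getElem_mem i.isLt, tab_tabEl (hv _ (List.getElem_mem i.isLt))⟩
  have hb : Function.Bijective f := by
    refine ⟨fun i j h => ?_, ?_⟩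
    · have ht := tab_congr (tab_tabEl (hv _ (List.getElem_mem i.isLt)))
        (tab_tabEl (hv _ (List.getElem_mem j.isLt))) (congrArg Subtype.val h)
      have hl : ∀ l ∈ sylTabs, l.length = 24 := by decide +kernel
      have e : sylTabs[i.val] = sylTabs[j.val] := by
        refine List.ext_getElem ((hl _ (List.getElem_mem _)).trans (hl _ (List.getElem_mem _)).symm) ?_
        intro k h1 h2
        have := ht k (by rwa [hl _ (List.getElem_mem _)] at h1)
        rwa [List.getD_eq_getElem _ _ h1, List.getD_eq_getElem _ _ h2] at this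
      exact Fin.ext ((List.Nodup.getElem_inj_iff syl_facts.2.2.2.2.2.1).1 e)
    · rintro ⟨g, l, hl, hg⟩
      obtain ⟨i, hi, rfl⟩ := List.getElem_of_mem hl
      exact ⟨⟨i, hi⟩, Subtype.ext (eq_of_tabs (tab_tabEl (hv _ (List.getElem_mem hi))) hg rfl)⟩
  rw [← Nat.card_eq_of_bijective f hb, Nat.card_fin, hlen]

/-- Every element of order 3 of the Sylow subgroup is conjugate to `sig` or to a central element. -/
theorem syl_cases {p : M24} (hp : p ∈ syl) (h1 : p ≠ 1) :
    IsConj p sig ∨ ∃ q ∈ syl, (∀ r ∈ syl, q * r = r * q) ∧ IsConj p q := by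
  obtain ⟨l, hl, hpl⟩ := hp
  obtain ⟨i, hi, rfl⟩ := List.getElem_of_mem hl
  rw [← List.getD_eq_getElem _ [] hi] at hpl
  have hi' : i < 27 := syl_facts.2.2.2.2.1 ▸ hi
  obtain ⟨hw, h⟩ := wit_facts ⟨i, hi'⟩
  have hwt := tab_tabEl hw
  rcases h with ⟨-, h⟩ | ⟨-, h⟩ | ⟨k, -, h⟩
  · left
    refine isConj_iff.2 ⟨tabEl (witTabs.getD i ([], 0)).1, mul_inv_eq_iff_eq_mul.2 ?_⟩
    exact eq_of_tabs (hwt.mul hpl) (tab_sig.mul hwt) h
  · exact absurd (eq_of_tabs hpl tab_one h) h1
  · right
    obtain ⟨hk, hc⟩ := cent_facts k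
    have hmem : sylTabs.getD (centIdx.getD k.val 0) [] ∈ sylTabs := by
      have hlen : centIdx.getD k.val 0 < sylTabs.length := syl_facts.2.2.2.2.1.symm ▸ hk
      rw [List.getD_eq_getElem _ _ hlen]
      exact List.getElem_mem _
    have hq := tab_tabEl (syl_facts.1 _ hmem)
    refine ⟨tabEl (sylTabs.getD (centIdx.getD k.val 0) []), ⟨_, hmem, hq⟩, ?_, ?_⟩
    · rintro r ⟨b, hb, hr⟩
      exact eq_of_tabs (hq.mul hr) (hr.mul hq) (hc b hb)
    · refine isConj_iff.2 ⟨tabEl (witTabs.getD i ([], 0)).1, mul_inv_eq_iff_eq_mul.2 ?_⟩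
      exact eq_of_tabs (hwt.mul hpl) (hq.mul hwt) h

end Cfsg.Agent.Monster4
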