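import Cfsg.Agent.Monster39.Stabilizer
import Cfsg.Agent.Monster4.Sigma

/-!
The classes modulo 2 fixed by a permutation automorphism of cycle type `3^8`: they are the classes of the
vectors of the fixed lattice, of rank 8.
-/

set_option autoImplicit false
set_option maxRecDepth 100000

namespace Cfsg.Agent.Monster4

open Cfsg Cfsg.Agent.Leech
open Cfsg.Agent.Golay (idx pt toSet inCode idx_lt pt_idx idx_pt)

/-- The lattice automorphism. -/
noncomputable def g0 : Co0 := Monster39.permHom sig

/-- The code mask of a vector. -/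
def maskV (v : GolayPt → ℤ) : ℕ :=
  (List.range 24).foldl (fun acc i => if (v (pt i) - v none) % 4 = 2 then acc + 2 ^ i else acc) 0

/-- A test for lattice membership. -/
def lvecOK (v : GolayPt → ℤ) : Prop :=
  inCode (maskV v) = true ∧ (∀ p, (4 : ℤ) ∣ v p - v none - 2 * bit (toSet (maskV v)) p) ∧
    (8 : ℤ) ∣ (∑ p, v p) - 4 * v none

instance (v : GolayPt → ℤ) : Decidable (lvecOK v) := by unfold lvecOK; infer_instance

theorem lvec_mem {v : GolayPt → ℤ} (h : lvecOK v) : v ∈ leechLattice :=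
  mem_lattice_iff.2 ⟨_, _, Golay.mem_supports_iff.2 ⟨_, h.1, rfl⟩, h.2.1, h.2.2⟩

/-- The cycle of a point. -/
def cycOf (p : GolayPt) : Fin 8 := ⟨cycPts.findIdx (fun c => c.contains (idx p)) % 8, Nat.mod_lt _ (by norm_num)⟩

/-- The chosen point of a cycle. -/
def repPt (c : Fin 8) : GolayPt := pt ((cycPts.getD c.val []).getD 0 0)

/-- The vector with given values on the cycles. -/
def expand (a : List ℤ) (p : GolayPt) : ℤ := a.getD (cycOf p).val 0

theorem cyc_facts : (∀ p : GolayPt, p = repPt (cycOf p) ∨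
      p = pt (sigTab.getD (idx (repPt (cycOf p))) 0) ∨
      p = pt (sigTab.getD (sigTab.getD (idx (repPt (cycOf p))) 0) 0)) ∧
    (∀ p : GolayPt, cycOf (pt (sigTab.getD (idx p) 0)) = cycOf p) ∧
    ∀ c : Fin 8, (Finset.univ.filter fun p => cycOf p = c).card = 3 := by
  decide +kernel

theorem basis_ok : ∀ j : Fin 8, lvecOK (expand (bTab.getD j.val [])) := by decide +kernel

/-- The basis of the fixed lattice. -/
def bVec (j : Fin 8) : leechLattice := ⟨expand (bTab.getD j.val []), lvec_mem (basis_ok j)⟩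

theorem g0_apply (v : leechLattice) (p : GolayPt) :
    ((g0 • v : leechLattice) : GolayPt → ℤ) (sig.1 p) = (v : GolayPt → ℤ) p := by
  show ((mono sig empty_mem_code • v : leechLattice) : GolayPt → ℤ) (sig.1 p) = _
  rw [coe_mono_smul]
  simp [signedPerm]

theorem g0_fix_iff {v : leechLattice} :
    g0 • v = v ↔ ∀ p, (v : GolayPt → ℤ) (sig.1 p) = (v : GolayPt → ℤ) p := by
  constructor
  · intro h p
    conv_rhs => rw [← g0_apply v p, h]
  · intro h
    refine Subtype.ext (funext fun p => ?_)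
    have := g0_apply v (sig.1.symm p)
    rw [Equiv.apply_symm_apply] at this
    rw [this, ← h (sig.1.symm p), Equiv.apply_symm_apply]

theorem g0_bVec (j : Fin 8) : g0 • bVec j = bVec j := by
  refine g0_fix_iff.2 fun p => ?_
  show List.getD _ (cycOf (sig.1 p)).val 0 = List.getD _ (cycOf p).val 0
  rw [tab_sig.apply, cyc_facts.2.1]

theorem g0_cube : g0 ^ 3 = 1 := by rw [g0, ← map_pow, sig_cube, map_one]

/-- An eighth of the inner product with a basis vector. -/
def dq (i : Fin 8) (v : leechLattice) : ℤ := dotInt (v : GolayPt → ℤ) (bVec i : GolayPt → ℤ) / 8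

theorem dq_spec (i : Fin 8) (v : leechLattice) :
    8 * dq i v = dotInt (v : GolayPt → ℤ) (bVec i : GolayPt → ℤ) :=
  Int.mul_ediv_cancel' (eight_dvd_dotInt v.2 (bVec i).2)

theorem dq_add (i : Fin 8) (v w : leechLattice) : dq i (v + w) = dq i v + dq i w := by
  have h1 := dq_spec i (v + w)
  have h2 := dq_spec i v
  have h3 := dq_spec i w
  have e : dotInt ((v + w : leechLattice) : GolayPt → ℤ) (bVec i : GolayPt → ℤ) =
      dotInt (v : GolayPt → ℤ) (bVec i : GolayPt → ℤ) + dotInt (w : GolayPt → ℤ) (bVec i : GolayPt → ℤ) := by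
    simp [dotInt, add_mul, Finset.sum_add_distrib, -Fintype.sum_option]
  omega

/-- The coordinates of the orbit sum. -/
def kc (j : Fin 8) (v : leechLattice) : ℤ :=
  ∑ i : Fin 8, (gInv.getD j.val []).getD i.val 0 * dq i v

theorem kc_add (j : Fin 8) (v w : leechLattice) : kc j (v + w) = kc j v + kc j w := by
  simp only [kc, dq_add, mul_add, Finset.sum_add_distrib]

/-- The space of fixed classes. -/
abbrev V : Type := Fin 8 → ZMod 2

/-- The coordinates modulo 2. -/
def kap : leechLattice →+ V :=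
  AddMonoidHom.mk' (fun v j => (kc j v : ZMod 2)) fun v w => funext fun j => by
    simp only [kc_add, Int.cast_add, Pi.add_apply]

theorem gram_facts : (∀ i l : Fin 8, ∑ j : Fin 8,
      (dotInt (bVec j : GolayPt → ℤ) (bVec i : GolayPt → ℤ)) * (gInv.getD j.val []).getD l.val 0 =
        if i = l then 24 else 0) ∧
    (∀ k l : Fin 8, ∑ i : Fin 8, (bAdj.getD k.val []).getD i.val 0 * (bTab.getD i.val []).getD l.val 0 =
        if k = l then bDet else 0) ∧ bDet ≠ 0 ∧
    ∀ i j : Fin 8, (kc j (bVec i) : ZMod 2) = if j = i then 1 else 0 := by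
  decide +kernel

theorem dotInt_cyc {w : GolayPt → ℤ} (hw : ∀ p, w p = w (repPt (cycOf p))) (i : Fin 8) :
    dotInt w (bVec i : GolayPt → ℤ) = 3 * ∑ c : Fin 8, w (repPt c) * (bTab.getD i.val []).getD c.val 0 := by
  unfold dotInt
  rw [← Finset.sum_fiberwise' Finset.univ cycOf (fun c => w (repPt c) * (bTab.getD i.val []).getD c.val 0) |>.trans
    (Finset.sum_congr rfl fun p _ => by rw [← hw p]; rfl), Finset.mul_sum]
  refine Finset.sum_congr rfl fun c _ => ?_
  rw [Finset.sum_const, cyc_facts.2.2 c]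
  simp

/-- The orbit sum of a vector. -/
theorem orbit_sum (v : leechLattice) :
    v + g0 • v + g0 • (g0 • v) = ∑ j : Fin 8, kc j v • bVec j := by
  set w : leechLattice := v + g0 • v + g0 • (g0 • v) - ∑ j : Fin 8, kc j v • bVec j with hw
  suffices h : w = 0 by rw [← sub_eq_zero, ← hw, h]
  have h3 : g0 • (g0 • (g0 • v)) = v := by
    rw [← mul_smul, ← mul_smul, ← pow_three', g0_cube, one_smul]
  have hfix : g0 • w = w := by
    have hs : g0 • (∑ j : Fin 8, kc j v • bVec j) = ∑ j : Fin 8, kc j v • bVec j := by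
      show hom g0 _ = _
      rw [map_sum]
      simp only [map_zsmul, hom_apply, g0_bVec]
    rw [hw, smul_sub', hs, smul_add', smul_add', h3]
    abel
  have hcyc : ∀ p, (w : GolayPt → ℤ) p = (w : GolayPt → ℤ) (repPt (cycOf p)) := by
    have hs := g0_fix_iff.1 hfix
    intro p
    have hlt := idx_lt (repPt (cycOf p))
    have e1 : pt (sigTab.getD (idx (repPt (cycOf p))) 0) = sig.1 (repPt (cycOf p)) :=
      (tab_sig.apply _).symm
    have e2 : pt (sigTab.getD (sigTab.getD (idx (repPt (cycOf p))) 0) 0) = sig.1 (sig.1 (repPt (cycOf p))) := by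
      rw [tab_sig.apply, tab_sig.apply, idx_pt (tab_sig.lt hlt)]
    rcases cyc_facts.1 p with h | h | h
    · exact congrArg _ h
    · rw [congrArg (w : GolayPt → ℤ) (h.trans e1), hs]
    · rw [congrArg (w : GolayPt → ℤ) (h.trans e2), hs, hs]
  have horth : ∀ i, dotInt (w : GolayPt → ℤ) (bVec i : GolayPt → ℤ) = 0 := by
    intro i
    let f : leechLattice →+ ℤ := AddMonoidHom.mk' (fun u => dotInt (u : GolayPt → ℤ) (bVec i : GolayPt → ℤ))
      fun a b => by simp [dotInt, add_mul, Finset.sum_add_distrib, -Fintype.sum_option]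
    have hf : ∀ u, f (g0 • u) = f u := fun u => by
      show dotInt ((g0 • u : leechLattice) : GolayPt → ℤ) (bVec i : GolayPt → ℤ) =
        dotInt (u : GolayPt → ℤ) (bVec i : GolayPt → ℤ)
      conv_lhs => rw [← g0_bVec i]
      exact dotInt_smul g0 u (bVec i)
    show f w = 0
    rw [hw, map_sub, map_add, map_add, hf, hf, hf, map_sum, sub_eq_zero]
    simp only [map_zsmul, smul_eq_mul]
    show _ = ∑ j : Fin 8, kc j v * dotInt (bVec j : GolayPt → ℤ) (bVec i : GolayPt → ℤ)
    rw [show f v + f v + f v = 3 * f v by ring]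
    simp only [kc, Finset.sum_mul]
    rw [Finset.sum_comm]
    have : ∀ l : Fin 8, ∑ j : Fin 8, (gInv.getD j.val []).getD l.val 0 * dq l v *
        dotInt (bVec j : GolayPt → ℤ) (bVec i : GolayPt → ℤ) = dq l v * if i = l then 24 else 0 := fun l => by
      rw [← gram_facts.1 i l, Finset.mul_sum]
      exact Finset.sum_congr rfl fun j _ => by ring
    simp only [this, mul_ite, mul_zero, Finset.sum_ite_eq, Finset.mem_univ, if_true]
    show 3 * dotInt (v : GolayPt → ℤ) (bVec i : GolayPt → ℤ) = _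
    rw [← dq_spec]; ring
  refine Subtype.ext (funext fun p => ?_)
  rw [hcyc p]
  show _ = (0 : ℤ)
  set k := cycOf p
  have hsum : ∀ i : Fin 8, ∑ c : Fin 8, (w : GolayPt → ℤ) (repPt c) * (bTab.getD i.val []).getD c.val 0 = 0 := by
    intro i
    have := horth i
    rw [dotInt_cyc hcyc] at this
    omega
  have hd : bDet * (w : GolayPt → ℤ) (repPt k) = 0 := by
    calc bDet * (w : GolayPt → ℤ) (repPt k)
        = ∑ c : Fin 8, (w : GolayPt → ℤ) (repPt c) * (if k = c then bDet else 0) := by
          simp [mul_comm]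
      _ = ∑ i : Fin 8, (bAdj.getD k.val []).getD i.val 0 *
            ∑ c : Fin 8, (w : GolayPt → ℤ) (repPt c) * (bTab.getD i.val []).getD c.val 0 := by
          simp only [← gram_facts.2.1, Finset.mul_sum]
          rw [Finset.sum_comm]
          exact Finset.sum_congr rfl fun i _ => Finset.sum_congr rfl fun c _ => by ring
      _ = 0 := Finset.sum_eq_zero fun i _ => by rw [hsum i, mul_zero]
  exact (mul_eq_zero.1 hd).resolve_left gram_facts.2.2.1

/-- The representative of a point of `V`. -/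
def rVec (k : V) : leechLattice := ∑ j : Fin 8, (k j).val • bVec j

theorem kap_bVec (i : Fin 8) : kap (bVec i) = Pi.single i 1 :=
  funext fun j => (gram_facts.2.2.2 i j).trans (by simp [Pi.single_apply])

theorem kap_rVec (k : V) : kap (rVec k) = k := by
  funext l
  simp [rVec, map_sum, map_nsmul, kap_bVec, Pi.single_apply, ZMod.natCast_val]
  rcases zmod2_cases (k l) with h | h <;> rw [h] <;> rfl

theorem g0_rVec (k : V) : g0 • rVec k = rVec k := by
  show hom g0 _ = _
  rw [rVec, map_sum]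
  simp only [map_nsmul, hom_apply, g0_bVec]

theorem kap_cong {v w : leechLattice} (h : Cong (v : GolayPt → ℤ) (w : GolayPt → ℤ)) : kap v = kap w := by
  obtain ⟨u, hu, e⟩ := h
  have e' : v - w = 2 • (⟨u, hu⟩ : leechLattice) := Subtype.ext e
  rw [← sub_eq_zero, ← map_sub, e', map_nsmul]
  funext j
  rw [Pi.smul_apply, Pi.zero_apply, two_nsmul]
  exact CharTwo.add_self_eq_zero _

/-- Congruence in the lattice. -/
theorem cong_iff {v w : leechLattice} :
    Cong (v : GolayPt → ℤ) (w : GolayPt → ℤ) ↔ ∃ u : leechLattice, v - w = 2 • u :=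
  ⟨fun ⟨u, hu, e⟩ => ⟨⟨u, hu⟩, Subtype.ext e⟩, fun ⟨u, e⟩ => ⟨u, u.2, congrArg Subtype.val e⟩⟩

/-- A fixed class is the class of its coordinates. -/
theorem cong_rVec {v : leechLattice} (h : Cong ((g0 • v : leechLattice) : GolayPt → ℤ) (v : GolayPt → ℤ)) :
    Cong (v : GolayPt → ℤ) (rVec (kap v) : GolayPt → ℤ) := by
  obtain ⟨u, hu⟩ := cong_iff.1 h
  have hgg : g0 • (g0 • v) = g0 • v + 2 • (g0 • u) := by
    have := congrArg (hom g0) (sub_eq_iff_eq_add'.1 hu)
    simpa [map_add, map_nsmul] using this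
  have hgv : g0 • v = v + 2 • u := sub_eq_iff_eq_add'.1 hu
  have hk : ∀ j, ∃ m : ℤ, kc j v = ((kap v j).val : ℤ) + 2 * m := fun j => by
    refine ⟨(kc j v) / 2, ?_⟩
    show _ = (((kc j v : ZMod 2)).val : ℤ) + _
    rw [ZMod.val_intCast]
    exact (Int.emod_add_mul_ediv _ 2).symm
  choose m hm using hk
  refine cong_iff.2 ⟨∑ j : Fin 8, m j • bVec j - v - (g0 • u + 2 • u), ?_⟩
  have h1 := orbit_sum v
  rw [hgg, hgv] at h1
  have h2 : ∑ j : Fin 8, kc j v • bVec j = rVec (kap v) + 2 • ∑ j : Fin 8, m j • bVec j := by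
    rw [rVec, Finset.smul_sum, ← Finset.sum_add_distrib]
    refine Finset.sum_congr rfl fun j _ => ?_
    rw [hm j, add_smul, natCast_zsmul, mul_smul, two_zsmul, two_nsmul]
  rw [h2] at h1
  rw [show rVec (kap v) = v + (v + 2 • u) + (v + 2 • u + 2 • (g0 • u)) - 2 • ∑ j : Fin 8, m j • bVec j from
    (eq_sub_iff_add_eq.2 h1.symm)]
  abel

/-- A point of `V` from a bit mask. -/
def bv (n : ℕ) : V := fun j => if n.testBit j.val then 1 else 0

theorem bv_bij : Function.Bijective (fun i : Fin 256 => bv i.val) := by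
  refine ⟨?_, ?_⟩
  · decide +kernel
  · decide +kernel

end Cfsg.Agent.Monster4
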