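import Cfsg.Agent.Lib.Leech.Co1Cent.Xi
import Cfsg.Agent.Monster4.Fixed

/-!
Three automorphisms commuting with the element of cycle type `3^8` and their action on the fixed classes.
-/

set_option autoImplicit false
set_option maxRecDepth 100000

namespace Cfsg.Agent.Monster4

open Cfsg Cfsg.Agent.Leech
open Cfsg.Agent.Leech.Co1Cent (vecL xiEnt xiA xiFun xi coe_xi_smul)
open Cfsg.Agent.Golay (idx pt toSet inCode idx_lt pt_idx idx_pt Tab comp idTab maps mem_toSet tab_one tab_unique)
open scoped Pointwise

/-- A monomial automorphism from a table and a mask. -/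
noncomputable def mkMono (l : List ℕ) (w : ℕ) : Co0 :=
  if h : inCode w = true then mono (tabEl l) (Golay.mem_supports_iff.2 ⟨w, h, rfl⟩ : toSet w ∈ code) else 1

/-- Data of a monomial automorphism. -/
def monOK (l li : List ℕ) (w : ℕ) : Bool :=
  validTab l && inCode w &&
    (List.range 24).all fun j => decide (li.getD j 0 < 24) && l.getD (li.getD j 0) 0 == j

/-- A monomial map on coordinate lists. -/
def monF (li : List ℕ) (w : ℕ) (x : List ℤ) : List ℤ :=
  (List.range 24).map fun j => if w.testBit j then -x.getD (li.getD j 0) 0 else x.getD (li.getD j 0) 0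

/-- The sextet map on coordinate lists. -/
def xiL (x : List ℤ) : List ℤ :=
  (List.range 24).map fun p => (∑ q : GolayPt, xiEnt (pt p) q * vecL x q) / 2

theorem vecL_map (f : ℕ → ℤ) (p : GolayPt) : vecL ((List.range 24).map f) p = f (idx p) := by
  show List.getD _ (idx p) 0 = _
  rw [List.getD_eq_getElem _ _ (by simpa using idx_lt p)]
  simp

theorem coe_mkMono {l li : List ℕ} {w : ℕ} (h : monOK l li w = true) {v : leechLattice} {x : List ℤ}
    (hv : (v : GolayPt → ℤ) = vecL x) :
    ((mkMono l w • v : leechLattice) : GolayPt → ℤ) = vecL (monF li w x) := by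
  simp only [monOK, Bool.and_eq_true, List.all_eq_true, List.mem_range, decide_eq_true_eq, beq_iff_eq] at h
  obtain ⟨⟨hl, hw⟩, hc⟩ := h
  rw [mkMono, dif_pos hw, coe_mono_smul, hv]
  funext p
  rw [monF, vecL_map]
  obtain ⟨hb, hinv⟩ := hc _ (idx_lt p)
  have hsymm : (tabEl l).1.symm p = pt (li.getD (idx p) 0) := by
    rw [Equiv.symm_apply_eq, (tab_tabEl hl).apply, idx_pt hb, hinv, pt_idx]
  simp only [signedPerm, hsymm, mem_toSet, vecL, idx_pt hb]

theorem coe_xi {v : leechLattice} {x : List ℤ} (hv : (v : GolayPt → ℤ) = vecL x) :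
    ((xi • v : leechLattice) : GolayPt → ℤ) = vecL (xiL x) := by
  rw [coe_xi_smul, hv]
  funext p
  rw [xiL, vecL_map, pt_idx]
  rfl

theorem coe_frame (i : GolayPt) :
    (frame i : GolayPt → ℤ) = vecL ((List.range 24).map fun k => if k = idx i then 8 else 0) := by
  funext p
  rw [vecL_map]
  show (Pi.single i 8 : GolayPt → ℤ) p = _
  by_cases h : p = i
  · subst h; simp
  · rw [Pi.single_eq_of_ne h, if_neg fun e => h (Golay.idx_injective e)]

/-- The basis as coordinate lists. -/
def bList (j : ℕ) : List ℤ := (List.range 24).map fun k => expand (bTab.getD j []) (pt k)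

theorem coe_bVec (j : Fin 8) : (bVec j : GolayPt → ℤ) = vecL (bList j.val) := by
  funext p
  rw [bList, vecL_map, pt_idx]
  rfl

/-- The `k`-th monomial factor. -/
noncomputable def mW (k : ℕ) : Co0 :=
  mkMono (wordTabs.getD k ([], [], 0)).1 (wordTabs.getD k ([], [], 0)).2.2

/-- The `k`-th monomial factor on lists. -/
def fW (k : ℕ) (x : List ℤ) : List ℤ :=
  monF (wordTabs.getD k ([], [], 0)).2.1 (wordTabs.getD k ([], [], 0)).2.2 x

/-- The three generators. -/
noncomputable def gen : Fin 3 → Co0
  | 0 => mW 0 * xi * mW 1 * xi * mW 2 * xi * mW 3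
  | 1 => mkMono genPerm.1 0
  | 2 => mkMono idTab genSign

/-- The three generators on lists. -/
def genF : Fin 3 → List ℤ → List ℤ
  | 0 => fun x => fW 0 (xiL (fW 1 (xiL (fW 2 (xiL (fW 3 x))))))
  | 1 => monF genPerm.2 0
  | 2 => monF idTab genSign

theorem mon_facts : (∀ k : Fin 4, monOK (wordTabs.getD k.val ([], [], 0)).1 (wordTabs.getD k.val ([], [], 0)).2.1
      (wordTabs.getD k.val ([], [], 0)).2.2 = true) ∧
    monOK genPerm.1 genPerm.2 0 = true ∧ monOK idTab idTab genSign = true := by
  decide +kernel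

theorem coe_gen (k : Fin 3) {v : leechLattice} {x : List ℤ} (hv : (v : GolayPt → ℤ) = vecL x) :
    ((gen k • v : leechLattice) : GolayPt → ℤ) = vecL (genF k x) := by
  match k with
  | 0 =>
    have hm : ∀ (n : Fin 4) {u : leechLattice} {y : List ℤ}, (u : GolayPt → ℤ) = vecL y →
        ((mW n.val • u : leechLattice) : GolayPt → ℤ) = vecL (fW n.val y) :=
      fun n {u y} hu => coe_mkMono (mon_facts.1 n) hu
    simp only [gen, genF, mul_smul]
    exact hm 0 (coe_xi (hm 1 (coe_xi (hm 2 (coe_xi (hm 3 hv))))))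
  | 1 => exact coe_mkMono mon_facts.2.1 hv
  | 2 => exact coe_mkMono mon_facts.2.2 hv

theorem word_frame : ∀ i : Fin 24,
    genF 0 ((List.range 24).map fun k => if k = i.val then 8 else 0) = frameImgs.getD i.val [] := by
  decide +kernel

theorem word_basis : ∀ j : Fin 8, genF 0 (bList j.val) = basisImgs.getD j.val [] := by decide +kernel

theorem comm_tables : (∀ i : Fin 24,
      monF sigInv 0 (frameImgs.getD i.val []) = frameImgs.getD (sigTab.getD i.val 0) []) ∧
    (∀ i : Fin 24, monF sigInv 0 (monF genPerm.2 0 ((List.range 24).map fun k => if k = i.val then 8 else 0)) =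
      monF genPerm.2 0 ((List.range 24).map fun k => if k = sigTab.getD i.val 0 then 8 else 0)) ∧
    (∀ i : Fin 24, monF sigInv 0 (monF idTab genSign ((List.range 24).map fun k => if k = i.val then 8 else 0)) =
      monF idTab genSign ((List.range 24).map fun k => if k = sigTab.getD i.val 0 then 8 else 0)) ∧
    monOK sigTab sigInv 0 = true := by
  decide +kernel

theorem g0_eq : g0 = mkMono sigTab 0 := by
  have h : inCode 0 = true := by decide +kernel
  rw [mkMono, dif_pos h]
  show mono sig empty_mem_code = _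
  have e : toSet 0 = (∅ : Finset GolayPt) := by
    ext p
    simp
  congr 1
  all_goals exact e.symm


theorem g0_frame (i : GolayPt) : g0 • frame i = frame (sig.1 i) := by
  apply Subtype.ext
  show ((mono sig empty_mem_code • frame i : leechLattice) : GolayPt → ℤ) = _
  rw [coe_mono_frame]
  simp [frame]

/-- The generators commute with `g0`. -/
theorem gen_comm (k : Fin 3) : gen k * g0 = g0 * gen k := by
  refine ext_frame fun i => Subtype.ext ?_
  rw [mul_smul, mul_smul, g0_frame, coe_gen k (coe_frame (sig.1 i))]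
  conv_rhs => rw [g0_eq, coe_mkMono comm_tables.2.2.2 (coe_gen k (coe_frame i))]
  rw [tab_sig.apply, idx_pt (tab_sig.lt (idx_lt i))]
  congr 1
  match k with
  | 0 =>
    rw [word_frame ⟨_, tab_sig.lt (idx_lt i)⟩, word_frame ⟨idx i, idx_lt i⟩]
    exact (comm_tables.1 ⟨idx i, idx_lt i⟩).symm
  | 1 => exact (comm_tables.2.1 ⟨idx i, idx_lt i⟩).symm
  | 2 => exact (comm_tables.2.2.1 ⟨idx i, idx_lt i⟩).symm

/-- The coordinates modulo 2 of an integer vector. -/
def kapF (x : GolayPt → ℤ) : V := fun j =>
  ((∑ i : Fin 8, (gInv.getD j.val []).getD i.val 0 * (dotInt x (bVec i : GolayPt → ℤ) / 8) : ℤ) : ZMod 2)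

theorem kap_eq (v : leechLattice) : kap v = kapF (v : GolayPt → ℤ) := rfl

theorem image_tables : ∀ j : Fin 8,
    kapF (vecL (basisImgs.getD j.val [])) = bv ((genImgs.getD 0 []).getD j.val 0) ∧
    kapF (vecL (monF genPerm.2 0 (bList j.val))) = bv ((genImgs.getD 1 []).getD j.val 0) ∧
    kapF (vecL (monF idTab genSign (bList j.val))) = bv ((genImgs.getD 2 []).getD j.val 0) := by
  decide +kernel

/-- The classes of the images of the basis. -/
theorem kap_gen_bVec (k : Fin 3) (j : Fin 8) :
    kap (gen k • bVec j) = bv ((genImgs.getD k.val []).getD j.val 0) := by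
  rw [kap_eq, coe_gen k (coe_bVec j)]
  match k with
  | 0 => rw [word_basis j]; exact (image_tables j).1
  | 1 => exact (image_tables j).2.1
  | 2 => exact (image_tables j).2.2

end Cfsg.Agent.Monster4
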