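import Cfsg.Agent.MonsterCent3.Locate
import Cfsg.Agent.Monster4.Cent

/-!
The subgroups of order 3 of the joint centralizer of `z` and a conjugate `s` of `z` in `Q` which are
central in no Sylow 3-subgroup: they form one class, and their centralizers move `z` to `s`.
-/
set_option autoImplicit false
set_option linter.style.haveILetI false
set_option linter.unusedSectionVars false

namespace Cfsg.Agent.Monster4

open Cfsg Cfsg.Agent.Monster39
open Cfsg.Agent.MonsterCent3 (mem_pair_iff card_centralizer_pair)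
open scoped Pointwise

/-- Two elements of order 3 with the same image under a map with kernel a 2-group are conjugate. -/
theorem conj_of_map_eq {S K : Type*} [Group S] [Group K] [Finite S] (φ : S →* K)
    (hker : IsPGroup 2 φ.ker) {c1 c2 : S} (h1 : orderOf c1 = 3) (h2 : orderOf c2 = 3)
    (he : φ c1 = φ c2) : ∃ k : S, k * c1 * k⁻¹ = c2 := by
  classical
  haveI : Fact (Nat.Prime 3) := ⟨by norm_num⟩
  haveI : Fact (Nat.Prime 2) := ⟨by norm_num⟩
  set H := (Subgroup.zpowers (φ c1)).comap φ with hH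
  have hc1 : c1 ∈ H := Subgroup.mem_comap.2 (Subgroup.mem_zpowers _)
  have hc2 : c2 ∈ H := Subgroup.mem_comap.2 (he ▸ Subgroup.mem_zpowers _)
  obtain ⟨n, hn⟩ := IsPGroup.iff_card.1 hker
  have hcard : (Nat.card H).factorization 3 ≤ 1 := by
    have h := Monster39.card_map_mul_inf_ker φ H
    have hk : φ.ker ≤ H := fun x hx => Subgroup.mem_comap.2 (by rw [MonoidHom.mem_ker.1 hx]; exact one_mem _)
    rw [inf_of_le_right hk, hn] at h
    have hd : Nat.card (H.map φ) ∣ 3 := by
      have h' : Nat.card (H.map φ) ∣ Nat.card (Subgroup.zpowers (φ c1)) :=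
        Subgroup.card_dvd_of_le (Subgroup.map_comap_le _ _)
      rw [Nat.card_zpowers] at h'
      exact h'.trans (h1 ▸ orderOf_map_dvd φ c1)
    rw [← h, Nat.factorization_mul (Nat.pos_of_dvd_of_pos hd (by norm_num)).ne' (by positivity),
      Finsupp.add_apply, Nat.prime_two.factorization_pow, Finsupp.single_apply, if_neg (by norm_num), add_zero]
    rcases (Nat.dvd_prime (by norm_num)).1 hd with h5 | h5 <;> rw [h5] <;> simp [Nat.Prime.factorization_self (by norm_num : Nat.Prime 3)]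
  have hP : ∀ c : S, c ∈ H → orderOf c = 3 →
      Nat.card ((Subgroup.zpowers c).subgroupOf H) = 3 ^ (Nat.card H).factorization 3 := by
    intro c hc hc3
    have h3 : 3 ∣ Nat.card H := hc3 ▸ Subgroup.orderOf_dvd_natCard H hc
    have := ((by norm_num : Nat.Prime 3).dvd_iff_one_le_factorization Nat.card_pos.ne').1 h3
    rw [Nat.card_congr (Subgroup.subgroupOfEquivOfLe (Subgroup.zpowers_le.2 hc)).toEquiv, Nat.card_zpowers, hc3,
      show (Nat.card H).factorization 3 = 1 by omega, pow_one]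
  obtain ⟨k, hk⟩ := MulAction.exists_smul_eq H (Sylow.ofCard _ (hP c1 hc1 h1)) (Sylow.ofCard _ (hP c2 hc2 h2))
  have hk' : MulAut.conj k • (Subgroup.zpowers c1).subgroupOf H = (Subgroup.zpowers c2).subgroupOf H :=
    congrArg (fun P : Sylow 3 H => (P : Subgroup H)) hk
  have h := Subgroup.smul_mem_pointwise_smul (⟨c1, hc1⟩ : H) (MulAut.conj k)
    ((Subgroup.zpowers c1).subgroupOf H) (Subgroup.mem_zpowers c1)
  rw [hk'] at h
  change (k : S) * c1 * (k : S)⁻¹ ∈ Subgroup.zpowers c2 at h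
  refine ⟨k, ?_⟩
  have hφk : φ ((k : S) * c1 * (k : S)⁻¹) = φ c2 := by
    obtain ⟨i, hi⟩ := Subgroup.mem_zpowers_iff.1 (Subgroup.mem_comap.1 k.2)
    rw [map_mul, map_mul, map_inv, ← hi, ← he, (Commute.zpow_self (φ c1) i).eq, mul_inv_cancel_right]
  have hm : ((k : S) * c1 * (k : S)⁻¹) * c2⁻¹ ∈ Subgroup.zpowers c2 :=
    mul_mem h (inv_mem (Subgroup.mem_zpowers c2))
  have hk2 : ((k : S) * c1 * (k : S)⁻¹) * c2⁻¹ ∈ φ.ker := by
    rw [MonoidHom.mem_ker, map_mul, map_inv, hφk, mul_inv_cancel]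
  have h5 := Subgroup.orderOf_dvd_natCard _ hm
  rw [Nat.card_zpowers, h2] at h5
  have h6 := Subgroup.orderOf_dvd_natCard φ.ker hk2
  rw [hn] at h6
  have := Nat.eq_one_of_dvd_coprimes
    (Nat.Coprime.pow_right n ((Nat.coprime_primes (by norm_num) Nat.prime_two).2 (by norm_num))) h5 h6
  rw [orderOf_eq_one_iff, mul_inv_eq_one] at this
  exact this

/-- Central in some Sylow 3-subgroup. -/
def IsThreeCentral {S : Type*} [Group S] (c : S) : Prop :=
  ∃ P : Sylow 3 S, c ∈ (P : Subgroup S) ∧ ∀ r ∈ (P : Subgroup S), c * r = r * c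

theorem IsThreeCentral.map {S : Type*} [Group S] [Finite S] (θ : MulAut S) {c : S} (h : IsThreeCentral c) :
    IsThreeCentral (θ c) := by
  obtain ⟨P, hc, hcomm⟩ := h
  refine ⟨P.mapSurjective (f := θ.toMonoidHom) θ.surjective, ⟨c, hc, rfl⟩, ?_⟩
  rintro _ ⟨r, hr, rfl⟩
  show θ c * θ r = θ r * θ c
  rw [← map_mul, hcomm r hr, map_mul]

variable {G : Type*} [Group G] [Finite G] {z : G}
  {Q : Subgroup (Subgroup.centralizer ({z} : Set G))} [Q.Normal]
  {e : (Subgroup.centralizer ({z} : Set G)) ⧸ Q ≃* Spor.Co1}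
  {ψ : leechLattice → Q ⧸ Subgroup.center Q}

/-- The joint centralizer. -/
abbrev pairCent (z : G) {Q : Subgroup (Subgroup.centralizer ({z} : Set G))} (s : Q) : Subgroup G :=
  Subgroup.centralizer ({z, ((s : Subgroup.centralizer ({z} : Set G)) : G)} : Set G)

/-- The joint centralizer inside the centralizer of `z`. -/
def toC (s : Q) : pairCent z s →* Subgroup.centralizer ({z} : Set G) :=
  MonoidHom.mk' (fun x => ⟨x, Subgroup.mem_centralizer_singleton_iff.2 (mem_pair_iff.1 x.2).1⟩) fun _ _ => rfl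

variable (M : Setting z Q e ψ) {s : Q} (hs : Cls ψ 64 s)

include M hs

/-- The map onto the stabilizer in the Conway group. -/
theorem exists_phi : ∃ (φ : pairCent z s →* (Subgroup.centralizer ({(s : Subgroup.centralizer ({z} : Set G))} :
        Set (Subgroup.centralizer ({z} : Set G)))).map (proj e)),
    Function.Surjective φ ∧ IsPGroup 2 φ.ker ∧ ∀ x, (φ x : Spor.Co1) = proj e (toC s x) := by
  have hmem : ∀ x : pairCent z s, toC s x ∈ Subgroup.centralizer ({(s : Subgroup.centralizer ({z} : Set G))} :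
        Set (Subgroup.centralizer ({z} : Set G))) := fun x =>
    Subgroup.mem_centralizer_singleton_iff.2 (Subtype.ext (mem_pair_iff.1 x.2).2)
  refine ⟨((proj e).comp (toC s)).codRestrict _ fun x => ⟨_, hmem x, rfl⟩, ?_, ?_, fun x => rfl⟩
  · rintro ⟨_, c, hc, rfl⟩
    exact ⟨⟨c, mem_pair_iff.2 ⟨Subgroup.mem_centralizer_singleton_iff.1 c.2,
      congrArg Subtype.val (Subgroup.mem_centralizer_singleton_iff.1 hc)⟩⟩, rfl⟩
  · have hQ : IsPGroup 2 Q := IsPGroup.of_card (n := 25) M.card_Q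
    refine hQ.of_injective (MonoidHom.mk' (fun x => ⟨toC s x.1, proj_eq_one.1
      (congrArg Subtype.val (MonoidHom.mem_ker.1 x.2))⟩) fun _ _ => rfl) fun x y h => ?_
    exact Subtype.ext (Subtype.ext (congrArg (fun q : Q => ((q : Subgroup.centralizer ({z} : Set G)) : G)) h))

/-- The data attached to the joint centralizer: elements of order 3 central in no Sylow 3-subgroup go,
up to conjugacy, to the element of cycle type `3^8`. -/
theorem exists_image : ∃ a0 : Co0, ∀ c : pairCent z s, orderOf c = 3 → ¬ IsThreeCentral c →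
    ∃ k : pairCent z s, proj e (toC s (k * c * k⁻¹)) = mathieuHom a0 sig := by
  classical
  haveI := finiteCo1
  haveI : Fact (Nat.Prime 3) := ⟨by norm_num⟩
  obtain ⟨a0, ha0⟩ := M.exists_mathieu hs
  refine ⟨a0, fun c hc hnc => ?_⟩
  set S1 := (Subgroup.centralizer ({(s : Subgroup.centralizer ({z} : Set G))} :
        Set (Subgroup.centralizer ({z} : Set G)))).map (proj e) with hS1
  obtain ⟨φ, hφs, hφk, hφe⟩ := exists_phi M hs
  let μ : M24 →* S1 := (mathieuHom a0).codRestrict _ fun σ => ha0 ⟨σ, rfl⟩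
  have hμ : Function.Injective μ := fun a b h => mathieuHom_injective a0 (congrArg Subtype.val h)
  have h27 : Nat.card (syl.map μ) = 3 ^ (Nat.card S1).factorization 3 := by
    rw [Subgroup.card_map_of_injective hμ, card_syl, M.card_stabilizer hs,
      Nat.factorization_mul (by norm_num) (by norm_num), Finsupp.add_apply, Nat.prime_two.factorization_pow,
      Finsupp.single_apply, if_neg (by norm_num)]
    have : (244823040 : ℕ).factorization 3 = 3 := by
      have h := Nat.factorization_mul (a := 27) (b := 9067520) (by norm_num) (by norm_num)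
      rw [show (244823040 : ℕ) = 27 * 9067520 by norm_num, h, Finsupp.add_apply,
        show (27 : ℕ) = 3 ^ 3 by norm_num, (by norm_num : Nat.Prime 3).factorization_pow, Finsupp.single_apply,
        if_pos rfl, Nat.factorization_eq_zero_of_not_dvd (by norm_num)]
    rw [this]
    norm_num
  let PS : Sylow 3 S1 := Sylow.ofCard (syl.map μ) h27
  obtain ⟨P0⟩ : Nonempty (Sylow 3 (pairCent z s)) := inferInstance
  obtain ⟨k1, hk1⟩ := MulAction.exists_smul_eq S1 (P0.mapSurjective hφs) PS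
  obtain ⟨k1', rfl⟩ := hφs k1
  set P : Sylow 3 (pairCent z s) := k1' • P0 with hP
  have hPimg : (P : Subgroup (pairCent z s)).map φ = syl.map μ := by
    have h : MulAut.conj (φ k1') • (P0 : Subgroup (pairCent z s)).map φ = syl.map μ :=
      congrArg (fun T : Sylow 3 S1 => (T : Subgroup S1)) hk1
    rw [← h, hP, Sylow.coe_subgroup_smul]
    ext x
    simp only [Subgroup.mem_map, Subgroup.mem_smul_pointwise_iff_exists, MulAut.smul_def, MulAut.conj_apply]
    constructor
    · rintro ⟨_, ⟨y, hy, rfl⟩, rfl⟩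
      exact ⟨φ y, ⟨y, hy, rfl⟩, by simp⟩
    · rintro ⟨_, ⟨y, hy, rfl⟩, rfl⟩
      exact ⟨k1' * y * k1'⁻¹, ⟨y, hy, rfl⟩, by simp⟩
  have hφc : orderOf (φ c) = 3 := by
    rcases (Nat.dvd_prime (by norm_num)).1 (hc ▸ orderOf_map_dvd φ c) with h | h
    · exfalso
      rw [orderOf_eq_one_iff, ← MonoidHom.mem_ker] at h
      obtain ⟨n, hn⟩ := IsPGroup.iff_card.1 hφk
      have h2 := Subgroup.orderOf_dvd_natCard φ.ker h
      rw [hc, hn] at h2
      have h3 := (by norm_num : Nat.Prime 3).dvd_of_dvd_pow h2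
      norm_num at h3
    · exact h
  have hp3 : IsPGroup 3 (Subgroup.zpowers (φ c)) :=
    IsPGroup.of_card (n := 1) (by rw [Nat.card_zpowers, hφc, pow_one])
  obtain ⟨T, hT⟩ := hp3.exists_le_sylow
  obtain ⟨k2, hk2⟩ := MulAction.exists_smul_eq S1 T PS
  have hk2m : k2 * φ c * k2⁻¹ ∈ syl.map μ := by
    have h := Subgroup.smul_mem_pointwise_smul _ (MulAut.conj k2) _ (hT (Subgroup.mem_zpowers (φ c)))
    rw [show MulAut.conj k2 • (T : Subgroup S1) = syl.map μ from
      congrArg (fun U : Sylow 3 S1 => (U : Subgroup S1)) hk2] at h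
    exact h
  obtain ⟨p, hp, hpe⟩ := hk2m
  have hp1 : p ≠ 1 := fun h => by
    rw [h, map_one, eq_comm, conj_eq_one_iff] at hpe
    rw [hpe, orderOf_one] at hφc
    norm_num at hφc
  have hlift : ∀ w : M24, ∃ k : pairCent z s, φ (k * c * k⁻¹) = μ w * μ p * (μ w)⁻¹ := fun w => by
    obtain ⟨k, hk⟩ := hφs (μ w * k2)
    exact ⟨k, by rw [map_mul, map_mul, map_inv, hk, hpe]; group⟩
  rcases syl_cases hp hp1 with hconj | ⟨q, hq, hqc, hconj⟩
  · obtain ⟨w, hw⟩ := isConj_iff.1 hconj
    obtain ⟨k, hk⟩ := hlift w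
    refine ⟨k, ?_⟩
    rw [← hφe, hk, ← map_inv, ← map_mul, ← map_mul, hw]
    rfl
  · exfalso
    apply hnc
    obtain ⟨w, hw⟩ := isConj_iff.1 hconj
    obtain ⟨k, hk⟩ := hlift w
    rw [← map_inv, ← map_mul, ← map_mul, hw] at hk
    have hqP : μ q ∈ (P : Subgroup (pairCent z s)).map φ := hPimg ▸ Subgroup.mem_map_of_mem μ hq
    obtain ⟨q', hq', hqe⟩ := hqP
    have hinj : ∀ x ∈ (P : Subgroup (pairCent z s)), φ x = 1 → x = 1 := by
      intro x hx hx1
      have hdis : Disjoint (P : Subgroup (pairCent z s)) φ.ker :=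
        IsPGroup.disjoint_of_ne 3 2 (by norm_num) _ _ P.2 hφk
      exact Subgroup.disjoint_def.1 hdis hx (MonoidHom.mem_ker.2 hx1)
    have hcent : ∀ r ∈ (P : Subgroup (pairCent z s)), q' * r = r * q' := by
      intro r hr
      obtain ⟨r', hr', hre⟩ := (show φ r ∈ syl.map μ from hPimg ▸ Subgroup.mem_map_of_mem φ hr)
      refine mul_inv_eq_one.1 (hinj _ (mul_mem (mul_mem hq' hr) (inv_mem (mul_mem hr hq'))) ?_)
      rw [map_mul, map_inv, mul_inv_eq_one, map_mul, map_mul, hqe, ← hre, ← map_mul, ← map_mul, hqc r' hr']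
    have ho : orderOf (k * c * k⁻¹) = 3 :=
      (orderOf_injective (MulAut.conj k).toMonoidHom (MulAut.conj k).injective c).trans hc
    have hq'o : orderOf q' = 3 := by
      refine orderOf_eq_prime (hinj _ (pow_mem hq' 3) ?_) fun h => ?_
      · rw [map_pow, hqe, ← hk, ← map_pow, ← ho, pow_orderOf_eq_one, map_one]
      · have h0 : φ (k * c * k⁻¹) = 1 := by rw [hk, ← hqe, h, map_one]
        rw [map_mul, map_mul, map_inv, conj_eq_one_iff] at h0
        rw [h0, orderOf_one] at hφc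
        norm_num at hφc
    obtain ⟨k3, hk3⟩ := conj_of_map_eq φ hφk hq'o ho (hqe.trans hk.symm)
    have h0 : IsThreeCentral (k * c * k⁻¹) := hk3 ▸ IsThreeCentral.map (MulAut.conj k3) ⟨P, hq', hcent⟩
    simpa [mul_assoc] using IsThreeCentral.map (MulAut.conj k⁻¹) h0

/-- An element of order 3 central in no Sylow 3-subgroup: its place in the Conway group and a fusion
element centralizing it. -/
theorem locate3 {c : pairCent z s} (hc : orderOf c = 3) (hnc : ¬ IsThreeCentral c) :
    (∃ a : Co0, proj e (toC s c) = QuotientGroup.mk (a * g0 * a⁻¹) ∧ (a * g0 * a⁻¹) ^ 3 = 1) ∧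
    ∃ n : G, n * (c : G) = (c : G) * n ∧ n * z * n⁻¹ = ((s : Subgroup.centralizer ({z} : Set G)) : G) := by
  classical
  obtain ⟨a0, ha0⟩ := exists_image M hs
  obtain ⟨k, hk⟩ := ha0 c hc hnc
  refine ⟨?_, ?_⟩
  · obtain ⟨k', hk'⟩ := QuotientGroup.mk_surjective (proj e (toC s k))
    refine ⟨k'⁻¹ * a0⁻¹, ?_, ?_⟩
    · rw [map_mul, map_mul, map_inv, map_mul, map_mul, map_inv, ← hk'] at hk
      have hme : (mathieuHom a0 sig : Spor.Co1) = QuotientGroup.mk (a0⁻¹ * g0 * a0) := by
        show (QuotientGroup.mk (a0⁻¹ * permHom sig * a0⁻¹⁻¹) : Spor.Co1) = _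
        rw [inv_inv]; rfl
      rw [hme, mul_inv_eq_iff_eq_mul, ← eq_inv_mul_iff_mul_eq] at hk
      rw [hk]
      simp only [← QuotientGroup.mk_inv, ← QuotientGroup.mk_mul]
      exact congrArg _ (by group)
    · rw [conj_pow, g0_cube]; group
  · obtain ⟨hsconj, hsne⟩ := (M.isConj_iff_cls s).2 hs
    obtain ⟨g₀, hg₀⟩ := isConj_iff.1 hsconj
    have hne : s ≠ M.zQ := (M.ne_zQ_iff s).2 hsne
    obtain ⟨y, hy, hyc⟩ := M.exists_back (x := s) hg₀ hne
    have hy64 : Cls ψ 64 y := by
      refine (M.isConj_iff_cls y).1 ⟨isConj_iff.2 ⟨g₀⁻¹, by rw [hy, inv_inv]⟩, ?_⟩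
      intro h
      exact hyc (M.mem_center_iff.2 (Or.inr (Subtype.ext (Subtype.ext h))))
    obtain ⟨h, hh⟩ := M.transitive (by norm_num) hs hy64
    set S : G := ((s : Subgroup.centralizer ({z} : Set G)) : G) with hSdef
    set g1 := g₀ * (h : G) with hg1
    have hhz : (h : G) * z * (h : G)⁻¹ = z := by
      rw [Subgroup.mem_centralizer_singleton_iff.1 h.2, mul_inv_cancel_right]
    have hhs : (h : G) * S * (h : G)⁻¹ = g₀⁻¹ * z * g₀ :=
      (congrArg (fun u : Q => ((u : Subgroup.centralizer ({z} : Set G)) : G)) hh).trans hy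
    have h1z : g1 * z * g1⁻¹ = S := by
      rw [hg1, show g₀ * (h : G) * z * (g₀ * h)⁻¹ = g₀ * ((h : G) * z * (h : G)⁻¹) * g₀⁻¹ by group, hhz, hg₀]
    have h1s : g1 * S * g1⁻¹ = z := by
      rw [hg1, show g₀ * (h : G) * S * (g₀ * h)⁻¹ = g₀ * ((h : G) * S * (h : G)⁻¹) * g₀⁻¹ by group, hhs]
      group
    have hmem : ∀ x : G, x ∈ pairCent z s → g1 * x * g1⁻¹ ∈ pairCent z s := by
      intro x hx
      obtain ⟨hx1, hx2⟩ := mem_pair_iff.1 hx
      refine mem_pair_iff.2 ⟨?_, ?_⟩
      · have := (show Commute x S from hx2).map (MulAut.conj g1).toMonoidHom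
        simpa [h1s] using this.eq
      · have := (show Commute x z from hx1).map (MulAut.conj g1).toMonoidHom
        simpa [h1z] using this.eq
    let f : pairCent z s →* pairCent z s :=
      ((MulAut.conj g1).toMonoidHom.comp (pairCent z s).subtype).codRestrict _ fun x => hmem x x.2
    have hf : Function.Bijective f := Finite.injective_iff_bijective.1 fun x y hxy =>
      Subtype.ext ((MulAut.conj g1).injective (congrArg Subtype.val hxy))
    let θ : MulAut (pairCent z s) := MulEquiv.ofBijective f hf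
    have hθo : orderOf (θ c) = 3 := (orderOf_injective θ.toMonoidHom θ.injective c).trans hc
    have hθn : ¬ IsThreeCentral (θ c) := fun h => hnc (by
      simpa using IsThreeCentral.map θ.symm h)
    obtain ⟨k', hk'⟩ := ha0 (θ c) hθo hθn
    obtain ⟨φ, -, hφk, hφe⟩ := exists_phi M hs
    have ho : ∀ (l x : pairCent z s), orderOf x = 3 → orderOf (l * x * l⁻¹) = 3 := fun l x hx =>
      (orderOf_injective (MulAut.conj l).toMonoidHom (MulAut.conj l).injective x).trans hx
    obtain ⟨l, hl⟩ := conj_of_map_eq φ hφk (ho k' _ hθo) (ho k _ hc)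
      (Subtype.ext (by rw [hφe, hφe, hk', hk]))
    set m := k⁻¹ * l * k' with hm
    have hmc : m * θ c * m⁻¹ = c := by
      rw [hm, show k⁻¹ * l * k' * θ c * (k⁻¹ * l * k')⁻¹ = k⁻¹ * (l * (k' * θ c * k'⁻¹) * l⁻¹) * k by group, hl]
      group
    refine ⟨(m : G) * g1, ?_, ?_⟩
    · have h : (m : G) * (g1 * (c : G) * g1⁻¹) * (m : G)⁻¹ = c := congrArg Subtype.val hmc
      calc (m : G) * g1 * c = (m : G) * (g1 * (c : G) * g1⁻¹) * (m : G)⁻¹ * ((m : G) * g1) := by group
        _ = c * ((m : G) * g1) := by rw [h]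
    · rw [show (m : G) * g1 * z * ((m : G) * g1)⁻¹ = (m : G) * (g1 * z * g1⁻¹) * (m : G)⁻¹ by group, h1z,
        (mem_pair_iff.1 m.2).2, mul_inv_cancel_right]

end Cfsg.Agent.Monster4
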